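import Cfsg.Agent.Coprime.J1.Uniq.Main
import Cfsg.Agent.Coprime.J1.Order
import Cfsg.Agent.Compute.J1.Centralizer

/-!
# Isomorphism of simple groups with an involution centralizer `2 × A₅`
-/

set_option autoImplicit false

namespace Cfsg.Agent.Coprime.J1.Uniq

open Subgroup

variable {G : Type*} [Group G]

/-- The permutation action transported along a numbering of the cosets. -/
noncomputable def permHom {n : ℕ} {X : Type*} [MulAction G X] (e : Fin n ≃ X) :
    G →* Equiv.Perm (Fin n) where
  toFun a := (e.trans (MulAction.toPerm a)).trans e.symm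
  map_one' := Equiv.ext fun c => by simp
  map_mul' a b := Equiv.ext fun c => by simp [mul_smul]

/-- The permutations of a numbering that follows the table. -/
theorem equiv_tableGroup [Finite G] [IsSimpleGroup G] (D : Setup G) :
    ∃ σ : Fin 4 → Equiv.Perm (Fin 1463),
      (∀ (l : Fin 4) (c : Fin 1463), ((σ l c : Fin 1463) : ℕ) = img (4 * (c : ℕ) + l)) ∧
      Nonempty (G ≃* Subgroup.closure (Set.range σ)) := by
  have := Fintype.ofFinite G
  have hG : Nat.card G = 175560 := D.card_eq
  obtain ⟨D', g, h1, h2, h3⟩ := D.exists_g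
  obtain ⟨htop, e, he⟩ := (Seven.exists_equiv (D := D') (g := g) ⟨h1, h2, h3⟩ hG)
  let ψ : G →* Equiv.Perm (Fin 1463) := permHom e
  refine ⟨fun l => ψ (letG D' g l)⁻¹, fun l c => ?_, ?_⟩
  · obtain ⟨d, hd, hdc⟩ := he l c
    rw [← hd]
    show (((e.symm ((letG D' g l)⁻¹ • e c)) : Fin 1463) : ℕ) = _
    rw [hdc, Equiv.symm_apply_apply]
  · have hker : Function.Injective ψ := by
      rw [← MonoidHom.ker_eq_bot_iff]
      refine ψ.normal_ker.eq_bot_or_eq_top.resolve_right fun htop' => ?_
      have hall : ∀ (a : G) (c : Fin 1463), a • e c = e c := by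
        intro a c
        have hm : ψ a = 1 := MonoidHom.mem_ker.1 (htop'.ge (mem_top a))
        have h : e.symm (a • e c) = c := DFunLike.congr_fun hm c
        exact e.symm_apply_eq.1 h
      obtain ⟨a, ha⟩ := QuotientGroup.mk_surjective (e 1)
      obtain ⟨b, hb⟩ := QuotientGroup.mk_surjective (e 0)
      have h := hall (a * b⁻¹) 0
      rw [← hb, MulAction.Quotient.smul_mk, smul_eq_mul, inv_mul_cancel_right, ha, hb] at h
      exact absurd (e.injective h) (by decide)
    have hrange : ψ.range = Subgroup.closure (Set.range fun l : Fin 4 => ψ (letG D' g l)⁻¹) := by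
      rw [MonoidHom.range_eq_map, ← htop, MonoidHom.map_closure, ← Set.range_comp]
      rfl
    exact ⟨(MonoidHom.ofInjective hker).trans (MulEquiv.subgroupCongr hrange)⟩

/-- Two simple groups with this centralizer are isomorphic. -/
theorem iso {H : Type*} [Group H] [Finite G] [IsSimpleGroup G] [Finite H] [IsSimpleGroup H]
    (D : Setup G) (E : Setup H) : Nonempty (G ≃* H) := by
  obtain ⟨σ, hσ, ⟨eG⟩⟩ := equiv_tableGroup D
  obtain ⟨τ, hτ, ⟨eH⟩⟩ := equiv_tableGroup E
  obtain rfl : σ = τ := funext fun l => Equiv.ext fun c => Fin.ext (by rw [hσ, hτ])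
  exact ⟨eG.trans eH.symm⟩

/-- A Sylow 2-subgroup of order 8 from a 2-central involution with this centralizer. -/
theorem sylow_card_of_central [Finite G] {t : G}
    (e : ↥(centralizer ({t} : Set G)) ≃* C₀) {P : Sylow 2 G} (hP : ∀ x ∈ P, x * t = t * x)
    (Q : Sylow 2 G) : Nat.card (Q : Subgroup G) = 8 := by
  have : Fact (Nat.Prime 2) := ⟨Nat.prime_two⟩
  have hle : (P : Subgroup G) ≤ centralizer ({t} : Set G) := fun x hx =>
    mem_centralizer_singleton_iff.2 (hP x hx)
  have h120 : Nat.card (centralizer ({t} : Set G)) = 120 := by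
    rw [Nat.card_congr e.toEquiv, card_C₀]
  have hG : 2 ^ 3 ∣ Nat.card G :=
    (by norm_num : 2 ^ 3 ∣ 120).trans (h120 ▸ card_subgroup_dvd_card _)
  have h8 := Sylow.pow_dvd_card_of_pow_dvd_card P hG
  obtain ⟨k, hk⟩ := IsPGroup.iff_card.1 P.isPGroup'
  have hd : 2 ^ k ∣ 120 := by rw [← hk, ← h120]; exact card_dvd_of_le hle
  rw [hk] at h8
  have h3 : 3 ≤ k := (Nat.pow_dvd_pow_iff_le_right (by norm_num)).1 h8
  have h4 : k ≤ 3 := by
    by_contra hc
    have : 2 ^ 4 ∣ 120 := (pow_dvd_pow 2 (by omega)).trans hd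
    norm_num at this
  rw [(Nat.card_congr (Sylow.equiv Q P).toEquiv), hk, show k = 3 by omega]
  norm_num

/-- A Sylow 2-subgroup of a group of order 175560 has order 8. -/
theorem sylow_card_of_order [Finite G] (hG : Nat.card G = 175560) (Q : Sylow 2 G) :
    Nat.card (Q : Subgroup G) = 8 := by
  have : Fact (Nat.Prime 2) := ⟨Nat.prime_two⟩
  rw [Sylow.card_eq_multiplicity, hG]
  have : Nat.factorization 175560 2 = 3 := by
    rw [show (175560 : ℕ) = 2 ^ 3 * 21945 by norm_num, Nat.factorization_mul (by norm_num) (by norm_num),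
      Finsupp.add_apply, Nat.Prime.factorization_pow Nat.prime_two, Finsupp.single_eq_same,
      Nat.factorization_eq_zero_of_not_dvd (by norm_num : ¬ 2 ∣ 21945)]
  rw [this]
  norm_num

/-- Recognition of `J₁`. -/
theorem isoJ1 [Finite G] [IsSimpleGroup G] (D : Setup G) : Cfsg.Spor.IsoJ1 G := by
  obtain ⟨t, ht, ⟨e⟩⟩ := Compute.J1.centralizer_J1
  have := Compute.J1.isSimple_J1
  have : Finite Cfsg.Spor.J1 := Nat.finite_of_card_ne_zero (by rw [Compute.J1.card_J1]; norm_num)
  exact iso D { t := t, ht := ht, e := e, sylow_card := sylow_card_of_order Compute.J1.card_J1 }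

end Cfsg.Agent.Coprime.J1.Uniq
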