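import Cfsg.Agent.Compute.PermRep
import Cfsg.Agent.Compute.Chunk

/-!
# Certificates for facts about a set with letters acting on it

A fact `(i, l, j)` says that letter `l` (or the identity, if `l = 8`) sends node `i` to node `j`.
Each fact is a definition of a node, a fixed point of the base node, or follows from earlier facts
along a path by a rotation of a relator or by free reduction.
-/

set_option autoImplicit false

namespace Cfsg.Agent.Coprime.J1.Uniq

open Cfsg.Agent.Compute

/-- The inverse letter. -/
noncomputable def linv (l : ℕ) : ℕ := cond (Nat.ble 4 l) (Nat.sub l 4) (Nat.add l 4)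

/-- A letter as a word; `8` is the identity. -/
noncomputable def wordOf (l : ℕ) : List ℕ := cond (Nat.beq l 8) [] [l]

/-- The inverse word. -/
noncomputable def winv (w : List ℕ) : List ℕ :=
  List.rec [] (fun a _ ih => ih ++ [linv a]) w

/-- Free reduction. -/
noncomputable def reduceW (w : List ℕ) : List ℕ :=
  List.rec (motive := fun _ => List ℕ) []
    (fun a _ ih => List.rec (motive := fun _ => List ℕ) [a]
      (fun b rest _ => cond (Nat.beq a (linv b)) rest (a :: b :: rest)) ih) w

/-- Equality of words. -/
noncomputable def weq (u : List ℕ) : List ℕ → Bool :=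
  List.rec (fun v => List.rec true (fun _ _ _ => false) v)
    (fun a _ ih v => List.rec false (fun b rest _ => Nat.beq a b && ih rest) v) u

theorem weq_eq : ∀ u v : List ℕ, weq u v = true → u = v := by
  intro u
  induction u with
  | nil =>
    intro v h
    cases v with
    | nil => rfl
    | cons b r => simp [weq] at h
  | cons a u ih =>
    intro v h
    cases v with
    | nil => simp [weq] at h
    | cons b r =>
      have h' : (Nat.beq a b && weq u r) = true := h
      rw [Bool.and_eq_true] at h'
      rw [Nat.eq_of_beq_eq_true h'.1, ih r h'.2]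

/-- Chunked look-up in a table of numbers of `w` bits. -/
noncomputable def get2 (w : ℕ) (data : List (List ℕ)) (i : ℕ) : ℕ :=
  getP w (nth 0 (nth [] data (i / 2048)) (i % 2048 / 128)) (i % 128)

/-- The data of a certificate. -/
structure Cert where
  rels : List (List ℕ)
  numFixed : ℕ
  nodes : List (List ℕ)
  facts : List (List ℕ)
  steps : List (List ℕ)

namespace Cert

variable (C : Cert)

noncomputable def par (n : ℕ) : ℕ := get2 20 C.nodes n / 8
noncomputable def ltr (n : ℕ) : ℕ := get2 20 C.nodes n % 8
noncomputable def hdr (f : ℕ) : ℕ := get2 80 C.facts f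
noncomputable def src (f : ℕ) : ℕ := C.hdr f % 32768
noncomputable def lab (f : ℕ) : ℕ := C.hdr f / 32768 % 16
noncomputable def dst (f : ℕ) : ℕ := C.hdr f / 524288 % 32768
noncomputable def rule (f : ℕ) : ℕ := C.hdr f / 17179869184 % 16384
noncomputable def off (f : ℕ) : ℕ := C.hdr f / 281474976710656 % 1048576
noncomputable def len (f : ℕ) : ℕ := C.hdr f / 295147905179352825856

/-- The steps of a fact: a number `2 * g + d`. -/
noncomputable def stepList (off len : ℕ) : List ℕ :=
  Nat.rec [] (fun k acc => get2 17 C.steps (off + len - (k + 1)) :: acc) len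

/-- Follow a path of facts below `n` from `cur` to `j`, collecting the letters. -/
noncomputable def path (n : ℕ) (st : List ℕ) : ℕ → ℕ → List ℕ → Option (List ℕ) :=
  List.rec (motive := fun _ => ℕ → ℕ → List ℕ → Option (List ℕ))
    (fun cur j acc => cond (Nat.beq cur j) (some acc) none)
    (fun s _ ih cur j acc =>
      cond (Nat.ble (s / 2 + 1) n)
        (cond (Nat.beq (s % 2) 0)
          (cond (Nat.beq (C.src (s / 2)) cur)
            (ih (C.dst (s / 2)) j (acc ++ wordOf (C.lab (s / 2)))) none)
          (cond (Nat.beq (C.dst (s / 2)) cur)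
            (ih (C.src (s / 2)) j (acc ++ winv (wordOf (C.lab (s / 2))))) none))
        none) st

/-- A rotation of a relator or of its inverse. -/
noncomputable def rot (c : ℕ) : List ℕ :=
  let r := nth [] C.rels (c / 128)
  let r' := cond (Nat.beq (c % 2) 0) r (winv r)
  r'.drop (c / 2 % 64) ++ r'.take (c / 2 % 64)

/-- The check of one fact. -/
noncomputable def factOK (f : ℕ) : Bool :=
  Nat.ble (C.lab f) 8 && cond (Nat.beq (C.rule f) 0)
    ((Nat.beq (C.par (C.dst f)) (C.src f) && Nat.beq (C.ltr (C.dst f)) (C.lab f) &&
        Nat.ble (C.par (C.dst f) + 1) (C.dst f)) ||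
      (Nat.beq (C.par (C.src f)) (C.dst f) && Nat.beq (C.ltr (C.src f)) (linv (C.lab f)) &&
        Nat.ble (C.par (C.src f) + 1) (C.src f) && Nat.ble (C.lab f + 1) 8))
    (cond (Nat.beq (C.rule f) 1)
      (Nat.beq (C.src f) 0 && Nat.beq (C.dst f) 0 && Nat.ble (C.lab f + 1) C.numFixed)
      (Option.rec false
        (fun W => cond (Nat.beq (C.rule f) 2)
          (weq (reduceW (W ++ winv (wordOf (C.lab f)))) [])
          (weq (W ++ winv (wordOf (C.lab f))) (C.rot (C.rule f - 3))))
        (C.path f (C.stepList (C.off f) (C.len f)) (C.src f) (C.dst f) [])))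

/-- All letters are proper and nodes have parents. -/
noncomputable def relsOK : Bool :=
  lall C.rels (fun r => lall r (fun l => Nat.ble (l + 1) 8))

end Cert

variable {X : Type*} (act : ℕ → X → X)

/-- A word acting, first letter first. -/
def run (w : List ℕ) (x : X) : X := w.foldl (fun y l => act l y) x

theorem run_append (u v : List ℕ) (x : X) : run act (u ++ v) x = run act v (run act u x) :=
  List.foldl_append ..

/-- What is required of the action of the letters. -/
structure Letters : Prop where
  id8 : ∀ x, act 8 x = x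
  inv : ∀ l, l < 8 → ∀ x, act (linv l) (act l x) = x

variable {act}

theorem linv_lt {l : ℕ} (h : l < 8) : linv l < 8 ∧ linv (linv l) = l := by
  unfold linv
  rcases Nat.lt_or_ge l 4 with h4 | h4
  · rw [show Nat.ble 4 l = false from by
      rw [Bool.eq_false_iff]; intro hh; rw [Nat.ble_eq] at hh; omega]
    have : Nat.ble 4 (l + 4) = true := Nat.ble_eq.mpr (by omega)
    simp only [cond_false, Nat.add_eq, this, cond_true, Nat.sub_eq]
    omega
  · rw [show Nat.ble 4 l = true from Nat.ble_eq.mpr h4]
    have : Nat.ble 4 (l - 4) = false := by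
      rw [Bool.eq_false_iff]; intro hh; rw [Nat.ble_eq] at hh; omega
    simp only [cond_true, Nat.sub_eq, this, cond_false, Nat.add_eq]
    omega

theorem winv_cons (a : ℕ) (w : List ℕ) : winv (a :: w) = winv w ++ [linv a] := rfl

theorem run_winv (h : Letters act) : ∀ w : List ℕ, (∀ l ∈ w, l < 8) → ∀ x,
    run act (winv w) (run act w x) = x := by
  intro w
  induction w with
  | nil => intro _ x; rfl
  | cons a w ih =>
    intro hw x
    rw [winv_cons, run_append]
    show act (linv a) (run act (winv w) (run act w (act a x))) = x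
    rw [ih (fun l hl => hw l (List.mem_cons_of_mem _ hl)), h.inv a (hw a (List.mem_cons_self ..))]

theorem winv_winv : ∀ w : List ℕ, (∀ l ∈ w, l < 8) → winv (winv w) = w := by
  have happ : ∀ u v : List ℕ, winv (u ++ v) = winv v ++ winv u := by
    intro u v
    induction u with
    | nil => simp [winv]
    | cons a u ih => rw [List.cons_append, winv_cons, ih, winv_cons, List.append_assoc]
  intro w
  induction w with
  | nil => intro _; rfl
  | cons a w ih =>
    intro hw
    rw [winv_cons, happ, ih (fun l hl => hw l (List.mem_cons_of_mem _ hl))]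
    show [linv (linv a)] ++ w = _
    rw [(linv_lt (hw a (List.mem_cons_self ..))).2]
    rfl

theorem winv_lt : ∀ {w : List ℕ}, (∀ l ∈ w, l < 8) → ∀ l ∈ winv w, l < 8 := by
  intro w
  induction w with
  | nil => intro _ l hl; simp [winv] at hl
  | cons a w ih =>
    intro hw l hl
    rw [winv_cons, List.mem_append, List.mem_singleton] at hl
    rcases hl with hl | rfl
    · exact ih (fun k hk => hw k (List.mem_cons_of_mem _ hk)) l hl
    · exact (linv_lt (hw a (List.mem_cons_self ..))).1

theorem run_winv' (h : Letters act) (w : List ℕ) (hw : ∀ l ∈ w, l < 8) (x : X) :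
    run act w (run act (winv w) x) = x := by
  have := run_winv h (winv w) (winv_lt hw) x
  rwa [winv_winv w hw] at this

theorem reduceW_cons (a : ℕ) (w : List ℕ) : reduceW (a :: w) =
    List.rec (motive := fun _ => List ℕ) [a]
      (fun b rest _ => cond (Nat.beq a (linv b)) rest (a :: b :: rest)) (reduceW w) := rfl

theorem run_reduce (h : Letters act) : ∀ w : List ℕ, (∀ l ∈ w, l < 8) →
    (∀ l ∈ reduceW w, l < 8) ∧ ∀ x, run act (reduceW w) x = run act w x := by
  intro w
  induction w with
  | nil => intro hw; exact ⟨hw, fun _ => rfl⟩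
  | cons a w ih =>
    intro hw
    have ha := hw a (List.mem_cons_self ..)
    obtain ⟨i1, i2⟩ := ih fun l hl => hw l (List.mem_cons_of_mem _ hl)
    rw [reduceW_cons]
    cases hR : reduceW w with
    | nil =>
      refine ⟨fun l hl => by simp at hl; subst hl; exact ha, fun x => ?_⟩
      show act a x = run act w (act a x)
      rw [← i2, hR]
      rfl
    | cons b rest =>
      rw [hR] at i1 i2
      cases hb : Nat.beq a (linv b) with
      | false =>
        simp only [hb, cond_false]
        refine ⟨?_, fun x => i2 (act a x)⟩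
        intro l hl
        rcases List.mem_cons.1 hl with rfl | hl
        · exact ha
        · exact i1 l hl
      | true =>
        simp only [hb, cond_true]
        refine ⟨fun l hl => i1 l (List.mem_cons_of_mem _ hl), fun x => ?_⟩
        show run act rest x = run act w (act a x)
        rw [← i2]
        show _ = run act rest (act b (act a x))
        have hbl := i1 b (List.mem_cons_self ..)
        have := h.inv (linv b) (linv_lt hbl).1 x
        rw [(linv_lt hbl).2] at this
        rw [Nat.eq_of_beq_eq_true hb, this]

namespace Cert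

variable (C : Cert)

/-- The meaning of a fact. -/
def Holds (act : ℕ → X → X) (ν : ℕ → X) (f : ℕ) : Prop :=
  C.lab f ≤ 8 ∧ act (C.lab f) (ν (C.src f)) = ν (C.dst f)

theorem run_wordOf (h : Letters act) {l : ℕ} (hl : l ≤ 8) (x : X) :
    run act (wordOf l) x = act l x ∧ ∀ k ∈ wordOf l, k < 8 := by
  rcases Nat.lt_or_eq_of_le hl with hl' | rfl
  · have hb : Nat.beq l 8 = false := by
      rw [Bool.eq_false_iff]; intro hh; have := Nat.eq_of_beq_eq_true hh; omega
    simp [wordOf, hb, run, hl']
  · simp [wordOf, run, h.id8]

theorem path_sound (h : Letters act) (ν : ℕ → X) (n : ℕ) (hprev : ∀ g < n, C.Holds act ν g) :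
    ∀ (st : List ℕ) (cur j : ℕ) (acc W : List ℕ) (x : X), C.path n st cur j acc = some W →
      (∀ l ∈ acc, l < 8) → run act acc x = ν cur →
      (∀ l ∈ W, l < 8) ∧ run act W x = ν j := by
  intro st
  induction st with
  | nil =>
    intro cur j acc W x hp hacc hrun
    have hp' : cond (Nat.beq cur j) (some acc) none = some W := hp
    cases hb : Nat.beq cur j <;> rw [hb] at hp' <;> simp at hp'
    subst hp'
    exact ⟨hacc, by rw [hrun, Nat.eq_of_beq_eq_true hb]⟩
  | cons s st ih =>
    intro cur j acc W x hp hacc hrun
    have hp' : cond (Nat.ble (s / 2 + 1) n)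
        (cond (Nat.beq (s % 2) 0)
          (cond (Nat.beq (C.src (s / 2)) cur)
            (C.path n st (C.dst (s / 2)) j (acc ++ wordOf (C.lab (s / 2)))) none)
          (cond (Nat.beq (C.dst (s / 2)) cur)
            (C.path n st (C.src (s / 2)) j (acc ++ winv (wordOf (C.lab (s / 2))))) none))
        none = some W := hp
    cases hlt : Nat.ble (s / 2 + 1) n <;> rw [hlt] at hp' <;> simp only [cond_false, cond_true] at hp'
    · simp at hp'
    have hg := hprev (s / 2) (by rw [Nat.ble_eq] at hlt; omega)
    obtain ⟨hw1, hw2⟩ := run_wordOf h hg.1 (ν (C.src (s / 2)))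
    cases hd : Nat.beq (s % 2) 0 <;> rw [hd] at hp' <;> simp only [cond_false, cond_true] at hp'
    · cases hc : Nat.beq (C.dst (s / 2)) cur <;> rw [hc] at hp' <;> simp only [cond_false, cond_true] at hp'
      · simp at hp'
      refine ih _ _ _ W x hp' ?_ ?_
      · intro l hl
        rcases List.mem_append.1 hl with hl | hl
        · exact hacc l hl
        · exact winv_lt hw2 l hl
      · rw [run_append, hrun, ← Nat.eq_of_beq_eq_true hc, ← hg.2, ← hw1]
        exact run_winv h _ hw2 _
    · cases hc : Nat.beq (C.src (s / 2)) cur <;> rw [hc] at hp' <;> simp only [cond_false, cond_true] at hp'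
      · simp at hp'
      refine ih _ _ _ W x hp' ?_ ?_
      · intro l hl
        rcases List.mem_append.1 hl with hl | hl
        · exact hacc l hl
        · exact hw2 l hl
      · rw [run_append, hrun, ← Nat.eq_of_beq_eq_true hc, hw1, hg.2]

theorem nth_mem_or {α : Type} (d : α) : ∀ (l : List α) (i : ℕ), nth d l i = d ∨ nth d l i ∈ l := by
  intro l
  induction l with
  | nil => intro i; exact Or.inl rfl
  | cons a l ih =>
    intro i
    cases i with
    | zero => exact Or.inr (List.mem_cons_self ..)
    | succ k => exact (ih k).imp id (List.mem_cons_of_mem _)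

theorem run_rot (h : Letters act) (hok : C.relsOK = true)
    (hrel : ∀ r ∈ C.rels, ∀ x, run act r x = x) (c : ℕ) (x : X) :
    run act (C.rot c) x = x := by
  set r := nth [] C.rels (c / 128) with hr
  have hr' : (∀ l ∈ r, l < 8) ∧ ∀ y, run act r y = y := by
    rcases nth_mem_or [] C.rels (c / 128) with hh | hh
    · rw [← hr] at hh
      rw [hh]
      exact ⟨by simp, fun y => rfl⟩
    · rw [← hr] at hh
      refine ⟨fun l hl => ?_, hrel r hh⟩
      have := (lall_iff _ _).1 ((lall_iff _ _).1 hok r hh) l hl
      rw [Nat.ble_eq] at this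
      omega
  set r' := cond (Nat.beq (c % 2) 0) r (winv r) with hr'def
  have h2 : (∀ l ∈ r', l < 8) ∧ ∀ y, run act r' y = y := by
    rw [hr'def]
    cases Nat.beq (c % 2) 0
    · refine ⟨winv_lt hr'.1, fun y => ?_⟩
      conv_lhs => rw [cond_false, ← hr'.2 y]
      exact run_winv h r hr'.1 y
    · exact hr'
  set k := c / 2 % 64
  show run act (r'.drop k ++ r'.take k) x = x
  have hu : ∀ l ∈ r'.take k, l < 8 := fun l hl => h2.1 l (List.mem_of_mem_take hl)
  have h3 : ∀ y, run act (r'.drop k) (run act (r'.take k) y) = y := by
    intro y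
    rw [← run_append, List.take_append_drop, h2.2]
  have h4 := h3 (run act (winv (r'.take k)) x)
  rw [run_winv' h _ hu] at h4
  rw [run_append, h4, run_winv' h _ hu]

/-- A map realising the node definitions. -/
theorem exists_nodes (act : ℕ → X → X) (x₀ : X) :
    ∃ ν : ℕ → X, ν 0 = x₀ ∧ ∀ n, C.par n < n → ν n = act (C.ltr n) (ν (C.par n)) := by
  refine ⟨WellFounded.fix Nat.lt_wfRel.wf
    (fun n ih => if hp : C.par n < n then act (C.ltr n) (ih (C.par n) hp) else x₀), ?_, ?_⟩
  · rw [WellFounded.fix_eq]
    simp
  · intro n hn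
    conv_lhs => rw [WellFounded.fix_eq]
    rw [dif_pos hn]

theorem sound (h : Letters act) {x₀ : X} (hrel : ∀ r ∈ C.rels, ∀ x, run act r x = x)
    (hfix : ∀ l < C.numFixed, act l x₀ = x₀) (hok : C.relsOK = true)
    {ν : ℕ → X} (hν0 : ν 0 = x₀)
    (hν : ∀ n, C.par n < n → ν n = act (C.ltr n) (ν (C.par n)))
    {N : ℕ} (hall : ∀ f < N, C.factOK f = true) : ∀ f < N, C.Holds act ν f := by
  intro f
  induction f using Nat.strong_induction_on with
  | _ f ih =>
    intro hf
    have hc := hall f hf
    simp only [factOK, Bool.and_eq_true] at hc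
    obtain ⟨hl8, hc⟩ := hc
    rw [Nat.ble_eq] at hl8
    cases hr0 : Nat.beq (C.rule f) 0 <;> rw [hr0] at hc <;> simp only [cond_false, cond_true] at hc
    · cases hr1 : Nat.beq (C.rule f) 1 <;> rw [hr1] at hc <;> simp only [cond_false, cond_true] at hc
      · cases hp : C.path f (C.stepList (C.off f) (C.len f)) (C.src f) (C.dst f) [] with
        | none => rw [hp] at hc; simp at hc
        | some W =>
          rw [hp] at hc
          obtain ⟨hW, hrun⟩ := C.path_sound h ν f (fun g hg => ih g hg (by omega)) _ _ _ [] W
            (ν (C.src f)) hp (by simp) rfl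
          have hzero : ∀ y, run act (W ++ winv (wordOf (C.lab f))) y = y := by
            intro y
            obtain ⟨-, hwl⟩ := run_wordOf h hl8 y
            have hall8 : ∀ l ∈ W ++ winv (wordOf (C.lab f)), l < 8 := by
              intro l hl
              rcases List.mem_append.1 hl with hl | hl
              · exact hW l hl
              · exact winv_lt hwl l hl
            cases hr2 : Nat.beq (C.rule f) 2 <;> simp only [hr2, cond_false, cond_true] at hc
            · rw [weq_eq _ _ hc]
              exact C.run_rot h hok hrel _ y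
            · rw [← (run_reduce h _ hall8).2, weq_eq _ _ hc]
              rfl
          have he := hzero (ν (C.src f))
          obtain ⟨hw1, hw2⟩ := run_wordOf h hl8 (ν (C.src f))
          refine ⟨hl8, ?_⟩
          rw [run_append, hrun] at he
          rw [← hw1, ← he, run_winv' h _ hw2]
      · simp only [Bool.and_eq_true, Nat.beq_eq, Nat.ble_eq] at hc
        obtain ⟨⟨h1, h2⟩, h3⟩ := hc
        refine ⟨by omega, ?_⟩
        rw [h1, h2, hν0]
        exact hfix _ h3
    · simp only [Bool.or_eq_true, Bool.and_eq_true, Nat.beq_eq, Nat.ble_eq] at hc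
      rcases hc with ⟨⟨h1, h2⟩, h3⟩ | ⟨⟨⟨h1, h2⟩, h3⟩, h4⟩
      · have hl : C.ltr (C.dst f) < 8 := Nat.mod_lt _ (by norm_num)
        refine ⟨by omega, ?_⟩
        rw [hν (C.dst f) (by omega), h1, h2]
      · refine ⟨by omega, ?_⟩
        rw [hν (C.src f) (by omega), h1, h2]
        have := h.inv (linv (C.lab f)) (linv_lt (by omega)).1 (ν (C.dst f))
        rwa [(linv_lt (by omega)).2] at this

end Cert

end Cfsg.Agent.Coprime.J1.Uniq
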