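import Cfsg.Agent.Coprime.J1.Uniq.GensModel
import Cfsg.Agent.Coprime.Action
import Mathlib.GroupTheory.Transfer

/-!
# Generators of a simple group of order 175560 with an involution centralizer `2 × A₅`

An element of order seven normalising `S₀` with a prescribed action, and an element of order five
in the centralizer of `x₃` and of an involution inverting `x₃`.
-/

set_option autoImplicit false
set_option synthInstance.maxSize 1000
set_option synthInstance.maxHeartbeats 200000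

namespace Cfsg.Agent.Coprime.J1

open Subgroup Equiv

namespace Setup

variable {G : Type*} [Group G] (D : Setup G)

/-- Change of the identification of the centralizer. -/
noncomputable def twist (σ : C₀ ≃* C₀) : Setup G where
  t := D.t
  ht := D.ht
  e := D.e.trans σ.symm
  sylow_card := D.sylow_card

theorem twist_emb (σ : C₀ ≃* C₀) (c : C₀) : (D.twist σ).emb c = D.emb (σ c) := rfl

variable [Finite G]

theorem normalizes_emb {n : G} (hn : n ∈ normalizer ((D.P : Subgroup G) : Set G)) {s : C₀}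
    (hs : s ∈ S₀) : ∃ s', s' ∈ S₀ ∧ D.emb s' = n * D.emb s * n⁻¹ :=
  D.mem_P.1 ((mem_normalizer_iff.1 hn _).1 (D.mem_P.2 ⟨s, hs, rfl⟩))

/-- The normalizer of `P` is transitive on the involutions of `P`. -/
theorem exists_move [IsSimpleGroup G] {c : C₀} (hc : c ∈ S₀) (hc1 : c ≠ 1) :
    ∃ n ∈ normalizer ((D.P : Subgroup G) : Set G), n * D.t * n⁻¹ = D.emb c := by
  have ho : orderOf (D.emb c) = 2 := orderOf_eq_prime
    (by rw [← map_pow, sq, S₀_sq c hc, map_one])
    (fun h => hc1 (D.emb_injective (by rw [h, map_one])))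
  obtain ⟨g, hg⟩ := isConj_iff.1 (D.isConj_t ho)
  have hle : (D.P : Subgroup G) ≤ centralizer ((D.P : Subgroup G) : Set G) :=
    le_centralizer_iff_isMulCommutative.mpr D.P_comm
  obtain ⟨n, hn, hne⟩ := Cfsg.Agent.Fusion.burnside_fusion_centralizer D.P
    (x := D.t) (g := g) (hle (D.mem_P.2 ⟨t₀, v₄_mem.2.2, D.emb_t₀⟩))
    (hle (D.mem_P.2 ⟨c, hc, hg.symm⟩))
  exact ⟨n, hn, by rw [hne, hg]⟩

theorem move_mem {n : G} (hn : n ∈ normalizer ((D.P : Subgroup G) : Set G)) {s : C₀} (hs : s ∈ S₀)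
    (h1 : s ≠ 1) : ∃ s', (s' ∈ S₀ ∧ s' ≠ 1) ∧ D.emb s' = n * D.emb s * n⁻¹ := by
  obtain ⟨s', hs', he⟩ := D.normalizes_emb hn hs
  refine ⟨s', ⟨hs', ?_⟩, he⟩
  rintro rfl
  rw [map_one, eq_comm, conj_eq_one_iff] at he
  exact h1 (D.emb_injective (by rw [he, map_one]))

theorem stab_eq {n : G} (hn : n ∈ normalizer ((D.P : Subgroup G) : Set G))
    (h : n * D.t * n⁻¹ = D.t) : ∃ c, D.emb c = n ∧ Nrm c := by
  obtain ⟨c, hc⟩ := D.exists_emb (mem_centralizer_singleton_iff.2 (mul_inv_eq_iff_eq_mul.1 h))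
  refine ⟨c, hc, fun s hs => ?_⟩
  obtain ⟨s', hs', he⟩ := D.normalizes_emb hn hs
  rw [← hc, D.conj_emb] at he
  rwa [← D.emb_injective he]

theorem count_S₀ : Nat.card {c : C₀ // c ∈ S₀ ∧ c ≠ 1} = 7 ∧ Nat.card {c : C₀ // Nrm c} = 24 := by
  rw [Nat.card_eq_fintype_card, Nat.card_eq_fintype_card, Fintype.card_subtype, Fintype.card_subtype]
  decide +kernel

theorem card_normalizer_P [IsSimpleGroup G] :
    Nat.card (normalizer ((D.P : Subgroup G) : Set G)) = 168 := by
  classical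
  set N := normalizer ((D.P : Subgroup G) : Set G)
  let sel : {c : C₀ // c ∈ S₀ ∧ c ≠ 1} → G := fun c =>
    Classical.choose (D.exists_move c.2.1 c.2.2)
  have hsel : ∀ c, sel c ∈ N ∧ sel c * D.t * (sel c)⁻¹ = D.emb c.1 := fun c =>
    Classical.choose_spec (D.exists_move c.2.1 c.2.2)
  let F : {c : C₀ // c ∈ S₀ ∧ c ≠ 1} × {c : C₀ // Nrm c} → N := fun p =>
    ⟨sel p.1 * D.emb p.2.1, mul_mem (hsel p.1).1 (D.emb_normalizes p.2.2)⟩
  have hF : ∀ p, (F p : G) * D.t * (F p : G)⁻¹ = D.emb p.1.1 := by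
    intro p
    rw [← (hsel p.1).2]
    have h : D.emb p.2.1 * D.t = D.t * D.emb p.2.1 := by
      rw [← D.emb_t₀, ← map_mul, ← map_mul, t₀_comm]
    show sel p.1 * D.emb p.2.1 * D.t * (sel p.1 * D.emb p.2.1)⁻¹ = _
    rw [mul_inv_rev, mul_assoc (sel p.1) (D.emb p.2.1) D.t, h]
    group
  have hb : Function.Bijective F := by
    constructor
    · intro p q hpq
      have h1 : p.1 = q.1 := Subtype.ext (D.emb_injective (by rw [← hF, ← hF, hpq]))
      refine Prod.ext h1 (Subtype.ext (D.emb_injective ?_))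
      have h2 : sel p.1 * D.emb p.2.1 = sel q.1 * D.emb q.2.1 := congrArg Subtype.val hpq
      rw [h1] at h2
      exact mul_left_cancel h2
    · rintro ⟨n, hn⟩
      obtain ⟨c, hc, he⟩ := D.move_mem hn v₄_mem.2.2 pow15.2.1
      rw [D.emb_t₀] at he
      obtain ⟨h1, h2⟩ := hsel ⟨c, hc⟩
      have hfix : (sel ⟨c, hc⟩)⁻¹ * n * D.t * ((sel ⟨c, hc⟩)⁻¹ * n)⁻¹ = D.t := by
        calc (sel ⟨c, hc⟩)⁻¹ * n * D.t * ((sel ⟨c, hc⟩)⁻¹ * n)⁻¹
            = (sel ⟨c, hc⟩)⁻¹ * (n * D.t * n⁻¹) * sel ⟨c, hc⟩ := by group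
          _ = D.t := by rw [← he, ← h2]; group
      obtain ⟨r, hr, hrn⟩ := D.stab_eq (mul_mem (inv_mem h1) hn) hfix
      refine ⟨(⟨c, hc⟩, ⟨r, hrn⟩), Subtype.ext ?_⟩
      show sel ⟨c, hc⟩ * D.emb r = n
      rw [hr]
      group
  rw [← Nat.card_congr (Equiv.ofBijective F hb), Nat.card_prod, count_S₀.1, count_S₀.2]

omit [Finite G] in
/-- An element of order seven moves `t`. -/
theorem seven_moves {g : G} (hg : orderOf g = 7) : g * D.t * g⁻¹ ≠ D.t := by
  intro h
  obtain ⟨c, hc⟩ := D.exists_emb (mem_centralizer_singleton_iff.2 (mul_inv_eq_iff_eq_mul.1 h))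
  have : orderOf c ∣ Nat.card C₀ := orderOf_dvd_natCard c
  rw [← orderOf_injective D.emb D.emb_injective, hc, hg, card_C₀] at this
  norm_num at this

/-- Subgroups of order seven of the normalizer are not normalised by `t`. -/
theorem seven_not_normal {g : G} (hgN : g ∈ normalizer ((D.P : Subgroup G) : Set G))
    (hg : orderOf g = 7) (h : D.t * g * D.t⁻¹ ∈ zpowers g) : False := by
  obtain ⟨m, hm⟩ := mem_zpowers_iff.1 h
  obtain ⟨s, hs, hse⟩ := D.normalizes_emb hgN v₄_mem.2.2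
  rw [D.emb_t₀] at hse
  have hz : g ^ (1 - m) = D.emb (s * t₀⁻¹) := by
    rw [map_mul, map_inv, D.emb_t₀, sub_eq_add_neg, zpow_add, zpow_one, zpow_neg, hm, hse]
    group
  have hsq : (s * t₀⁻¹) ^ 2 = 1 := by
    rw [sq, S₀_sq _ (mul_mem hs (inv_mem v₄_mem.2.2))]
  have h1 : g ^ (1 - m) = 1 := by
    have h2 : orderOf (g ^ (1 - m)) ∣ 7 := hg ▸ orderOf_dvd_of_mem_zpowers ⟨1 - m, rfl⟩
    have h3 : orderOf (g ^ (1 - m)) ∣ 2 := orderOf_dvd_of_pow_eq_one (by
      rw [hz, ← map_pow, hsq, map_one])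
    exact orderOf_eq_one_iff.1 (Nat.eq_one_of_dvd_one
      (show Nat.gcd 7 2 = 1 by decide ▸ Nat.dvd_gcd h2 h3))
  rw [h1, eq_comm, map_mul, map_inv, mul_inv_eq_one, D.emb_t₀, hse] at hz
  exact D.seven_moves hg hz

/-- An element of order seven of the normalizer, normalised by an element of order three. -/
theorem exists_frobenius [IsSimpleGroup G] :
    ∃ g ∈ normalizer ((D.P : Subgroup G) : Set G), orderOf g = 7 ∧
      ∃ h ∈ normalizer ((D.P : Subgroup G) : Set G), orderOf h = 3 ∧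
        ∃ m : ℕ, h * g * h⁻¹ = g ^ m := by
  have : Fact (Nat.Prime 7) := ⟨by norm_num⟩
  have : Fact (Nat.Prime 3) := ⟨by norm_num⟩
  set N := normalizer ((D.P : Subgroup G) : Set G) with hN
  have hcard : Nat.card N = 168 := D.card_normalizer_P
  obtain ⟨Q, hQ7⟩ : ∃ Q : Sylow 7 N, Nat.card (Q : Subgroup N) = 7 := by
    obtain ⟨Q⟩ : Nonempty (Sylow 7 N) := inferInstance
    refine ⟨Q, ?_⟩
    rw [Sylow.card_eq_multiplicity, hcard, show Nat.factorization 168 7 = 1 from ?_, pow_one]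
    rw [Nat.factorization_eq_card_pow_dvd 168 (by norm_num)]
    decide +kernel
  obtain ⟨⟨g, hgQ⟩, hg⟩ := exists_prime_orderOf_dvd_card' (G := (Q : Subgroup N)) 7 (by rw [hQ7])
  rw [Subgroup.orderOf_mk] at hg
  have hQg : (Q : Subgroup N) = zpowers g :=
    (eq_of_le_of_card_ge (zpowers_le.2 hgQ) (by rw [hQ7, Nat.card_zpowers, hg])).symm
  have hg' : orderOf (g : G) = 7 := by
    rw [← hg]; exact orderOf_injective N.subtype N.subtype_injective g
  have hn := card_sylow_modEq_one 7 N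
  have hd := Q.card_dvd_index
  have hi : (Q : Subgroup N).index = 24 := by
    have := card_mul_index (Q : Subgroup N)
    rw [hQ7, hcard] at this
    omega
  rw [hi] at hd
  have hidx := Sylow.card_eq_index_normalizer Q
  have hno : Nat.card (Sylow 7 N) = 8 := by
    have h24 := Nat.le_of_dvd (by norm_num) hd
    have h1 : Nat.card (Sylow 7 N) ≠ 1 := by
      intro h
      rw [h] at hidx
      have htN : D.t ∈ N := le_normalizer (D.mem_P.2 ⟨t₀, v₄_mem.2.2, D.emb_t₀⟩)
      have hmem : (⟨D.t, htN⟩ : N) ∈ normalizer ((Q : Subgroup N) : Set N) :=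
        (index_eq_one.1 hidx.symm).ge (mem_top _)
      have h2 := (mem_normalizer_iff.1 hmem g).1 hgQ
      rw [hQg] at h2
      obtain ⟨m, hm⟩ := mem_zpowers_iff.1 h2
      refine D.seven_not_normal g.2 hg' (mem_zpowers_iff.2 ⟨m, ?_⟩)
      simpa using congrArg (fun n : N => (n : G)) hm
    rw [Nat.ModEq] at hn
    generalize Nat.card (Sylow 7 N) = u at hn hd h24 h1
    interval_cases u <;> simp_all
  rw [hno] at hidx
  have h21 : Nat.card (normalizer ((Q : Subgroup N) : Set N)) * 8 = 168 := by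
    rw [← hcard, hidx]
    exact card_mul_index _
  obtain ⟨⟨h, hhQ⟩, hh⟩ := exists_prime_orderOf_dvd_card' (G := normalizer ((Q : Subgroup N) : Set N)) 3
    (Dvd.intro 7 (by omega))
  rw [Subgroup.orderOf_mk] at hh
  refine ⟨g, g.2, hg', h, h.2, ?_, ?_⟩
  · rw [← hh]; exact orderOf_injective N.subtype N.subtype_injective h
  · have h2 := (mem_normalizer_iff.1 hhQ g).1 hgQ
    rw [hQg] at h2
    obtain ⟨m, hm⟩ := (isOfFinOrder_of_finite g).mem_powers_iff_mem_zpowers.2 h2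
    exact ⟨m, by simpa using (congrArg (fun n : N => (n : G)) hm).symm⟩

theorem exists_seven [IsSimpleGroup G] :
    ∃ g ∈ normalizer ((D.P : Subgroup G) : Set G), orderOf g = 7 ∧
      ∃ r : C₀, r * r * r = 1 ∧ r ≠ 1 ∧ Nrm r ∧ ∃ m : ℕ, D.emb r * g * (D.emb r)⁻¹ = g ^ m := by
  classical
  obtain ⟨g, hgN, hg, h, hhN, hh, m, hm⟩ := D.exists_frobenius
  -- `h` fixes a non-trivial element of `S₀`; move it to `t`
  let π : {c : C₀ // c ∈ S₀ ∧ c ≠ 1} → {c : C₀ // c ∈ S₀ ∧ c ≠ 1} := fun c =>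
    ⟨Classical.choose (D.move_mem hhN c.2.1 c.2.2),
      (Classical.choose_spec (D.move_mem hhN c.2.1 c.2.2)).1⟩
  have hπ : ∀ c, D.emb (π c).1 = h * D.emb c.1 * h⁻¹ := fun c =>
    (Classical.choose_spec (D.move_mem hhN c.2.1 c.2.2)).2
  have hh3 : h ^ 3 = 1 := hh ▸ pow_orderOf_eq_one h
  have hπ3 : ∀ c, π (π (π c)) = c := fun c => Subtype.ext (D.emb_injective (by
    rw [hπ, hπ, hπ]
    calc h * (h * (h * D.emb c.1 * h⁻¹) * h⁻¹) * h⁻¹ = h ^ 3 * D.emb c.1 * (h ^ 3)⁻¹ := by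
          rw [pow_succ, pow_two]; group
      _ = _ := by rw [hh3]; group))
  obtain ⟨c, hc⟩ : ∃ c, π c = c := by
    have : Fact (Nat.Prime 3) := ⟨by norm_num⟩
    let σ : Equiv.Perm {c : C₀ // c ∈ S₀ ∧ c ≠ 1} := ⟨π, π ∘ π, hπ3, hπ3⟩
    obtain ⟨c, hc⟩ := Equiv.Perm.exists_fixed_point_of_prime (p := 3) (n := 1) (σ := σ) (by
      rw [← Nat.card_eq_fintype_card, count_S₀.1]; norm_num) (by
      rw [pow_one]; exact Equiv.ext fun c => hπ3 c)
    exact ⟨c, hc⟩
  have hfix : h * D.emb c.1 * h⁻¹ = D.emb c.1 := by rw [← hπ, hc]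
  obtain ⟨n, hn, hnc⟩ := D.exists_move c.2.1 c.2.2
  obtain ⟨u, hu⟩ : ∃ u, u = n⁻¹ * h * n := ⟨_, rfl⟩
  have hut : u * D.t * u⁻¹ = D.t := by
    rw [hu]
    calc n⁻¹ * h * n * D.t * (n⁻¹ * h * n)⁻¹ = n⁻¹ * (h * (n * D.t * n⁻¹) * h⁻¹) * n := by group
      _ = D.t := by rw [hnc, hfix, ← hnc]; group
  have huN : u ∈ normalizer ((D.P : Subgroup G) : Set G) :=
    hu ▸ mul_mem (mul_mem (inv_mem hn) hhN) hn
  obtain ⟨r, hr, hrn⟩ := D.stab_eq huN hut
  have hu3 : orderOf u = 3 := by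
    rw [hu, show n⁻¹ * h * n = (MulAut.conj n⁻¹).toMonoidHom h by simp,
      orderOf_injective _ (MulAut.conj _).injective, hh]
  refine ⟨n⁻¹ * g * n, mul_mem (mul_mem (inv_mem hn) hgN) hn, ?_, r, ?_, ?_, hrn, m, ?_⟩
  · rw [show n⁻¹ * g * n = (MulAut.conj n⁻¹).toMonoidHom g by simp,
      orderOf_injective _ (MulAut.conj _).injective, hg]
  · refine D.emb_injective ?_
    have h3 := pow_orderOf_eq_one u
    rw [hu3, pow_succ, pow_two] at h3
    rw [map_mul, map_mul, hr, map_one, h3]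
  · intro h1
    rw [h1, map_one] at hr
    rw [← hr, orderOf_one] at hu3
    omega
  · rw [hr, hu, show n⁻¹ * g * n = n⁻¹ * g * n⁻¹⁻¹ by rw [inv_inv], conj_pow, ← hm]
    group

include D in
/-- An element of order seven normalising `S₀` with action `stdImg`, squared by `(1, x₃)`. -/
theorem exists_g [IsSimpleGroup G] : ∃ (D' : Setup G) (g : G), g ^ 7 = 1 ∧
    (∀ s, s ∈ S₀ → g * D'.emb s * g⁻¹ = D'.emb (lin stdImg s)) ∧
    D'.emb (1, x₃) * g * (D'.emb (1, x₃))⁻¹ = g ^ 2 := by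
  classical
  obtain ⟨g₀, hg₀, h7, r, hr3, hr1, hrn, m, hm⟩ := D.exists_seven
  obtain ⟨s, hs, hsr⟩ := order_three_nrm r hr3 hr1 hrn
  have hsN : D.emb s ∈ normalizer ((D.P : Subgroup G) : Set G) :=
    le_normalizer (D.mem_P.2 ⟨s, hs, rfl⟩)
  set g := D.emb s * g₀ * (D.emb s)⁻¹ with hg
  have hgN : g ∈ normalizer ((D.P : Subgroup G) : Set G) := mul_mem (mul_mem hsN hg₀) (inv_mem hsN)
  have hg7 : orderOf g = 7 := by
    rw [hg, show D.emb s * g₀ * (D.emb s)⁻¹ = (MulAut.conj (D.emb s)).toMonoidHom g₀ by simp,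
      orderOf_injective _ (MulAut.conj _).injective, h7]
  have hgm : D.emb (s * r * s⁻¹) * g * (D.emb (s * r * s⁻¹))⁻¹ = g ^ m := by
    rw [hg, conj_pow, ← hm, map_mul, map_mul, map_inv]
    group
  have h7' : g ^ 7 = 1 := hg7 ▸ pow_orderOf_eq_one g
  -- conjugation by `(1, x₃)`
  obtain ⟨k, hk⟩ : ∃ k : ℕ, D.emb (1, x₃) * g * (D.emb (1, x₃))⁻¹ = g ^ k := by
    rcases hsr with h | h
    · exact ⟨m, h ▸ hgm⟩
    · rw [h] at hgm
      refine ⟨m * m, ?_⟩
      have h3 : (D.emb ((1, x₃) : C₀)⁻¹) * (D.emb ((1, x₃) : C₀)⁻¹) = D.emb (1, x₃) := by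
        rw [← map_mul]; congr 1; decide +kernel
      rw [← h3, pow_mul, ← hgm, conj_pow, ← hgm]
      group
  have hiter : ∀ n : ℕ, D.emb (1, x₃) ^ n * g * (D.emb (1, x₃) ^ n)⁻¹ = g ^ (k ^ n) := by
    intro n
    induction n with
    | zero => simp
    | succ n ih =>
      rw [pow_succ' (D.emb (1, x₃)), pow_succ k n, mul_comm (k ^ n) k, pow_mul, ← hk, conj_pow, ← ih]
      group
  have hk3 : k % 7 ^ 1 = 2 ∨ k % 7 ^ 1 = 4 := by
    have h := hiter 3
    rw [← map_pow, show ((1, x₃) : C₀) ^ 3 = 1 from by decide +kernel, map_one, one_mul, inv_one,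
      mul_one] at h
    have hmod : k ^ 3 % 7 = 1 := by
      conv_lhs at h => rw [← pow_one g]
      rw [pow_inj_mod, hg7] at h
      omega
    have hk7 : k % 7 < 7 := Nat.mod_lt _ (by norm_num)
    rw [Nat.pow_mod] at hmod
    have hne : k % 7 ≠ 1 := by
      intro h1
      have hc : D.emb (1, x₃) * g * (D.emb (1, x₃))⁻¹ = g := by
        rw [hk, ← Nat.mod_add_div k 7, h1, pow_add, pow_one, pow_mul, h7', one_pow, mul_one]
      obtain ⟨s', hs', he⟩ := D.normalizes_emb hgN v₄_mem.2.2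
      have hfix : conjX s' = s' := D.emb_injective (by
        rw [conjX, map_mul, map_mul, map_inv, he]
        calc D.emb (1, x₃) * (g * D.emb t₀ * g⁻¹) * (D.emb (1, x₃))⁻¹
            = (D.emb (1, x₃) * g * (D.emb (1, x₃))⁻¹) * (D.emb (1, x₃) * D.emb t₀ *
              (D.emb (1, x₃))⁻¹) * (D.emb (1, x₃) * g * (D.emb (1, x₃))⁻¹)⁻¹ := by group
          _ = g * D.emb t₀ * g⁻¹ := by
            rw [hc, conj_emb, show ((1, x₃) : C₀) * t₀ * ((1, x₃) : C₀)⁻¹ = t₀ from by decide +kernel])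
      rw [D.emb_t₀] at he
      rcases fix_x₃ s' hs' hfix with rfl | rfl
      · rw [map_one, eq_comm, conj_eq_one_iff] at he
        have := D.ht
        rw [he, orderOf_one] at this
        omega
      · rw [D.emb_t₀] at he
        exact D.seven_moves hg7 he.symm
    generalize k % 7 = u at hmod hk7 hne ⊢
    have key : ∀ v < 7, v ^ 3 % 7 = 1 → v ≠ 1 → v = 2 ∨ v = 4 := by decide
    exact key u hk7 (by simpa using hmod) hne
  -- orient
  obtain ⟨D', hPe, hD'⟩ : ∃ D' : Setup G,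
      (∀ s, s ∈ S₀ → ∃ s', s' ∈ S₀ ∧ D'.emb s' = g * D'.emb s * g⁻¹) ∧
      D'.emb (1, x₃) * g * (D'.emb (1, x₃))⁻¹ = g ^ 2 := by
    have hred : g ^ k = g ^ (k % 7) := by
      conv_lhs => rw [← Nat.mod_add_div k 7, pow_add, pow_mul, h7', one_pow, mul_one]
    rw [pow_one] at hk3
    rcases hk3 with h | h
    · exact ⟨D, fun s hs => D.normalizes_emb hgN hs, by rw [hk, hred, h]⟩
    · refine ⟨D.twist flipA, fun s hs => ?_, ?_⟩
      · obtain ⟨s', hs', he⟩ := D.normalizes_emb hgN (flipA_facts.2.1 s hs)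
        refine ⟨flipA s', flipA_facts.2.1 s' hs', ?_⟩
        rw [twist_emb, twist_emb, flipA_facts.2.2, he]
      · rw [twist_emb, flipA_facts.1]
        have h2 := hiter 2
        rw [← map_pow, show ((1, x₃) : C₀) ^ 2 = ((1, x₃) : C₀)⁻¹ from by decide +kernel] at h2
        rw [h2, ← Nat.mod_add_div (k ^ 2) 7, pow_add, pow_mul, h7', one_pow, mul_one, Nat.pow_mod, h]
  -- normalise the action
  have hex : ∀ s : C₀, s ∈ S₀ → ∃ s', s' ∈ S₀ ∧ D'.emb s' = g * D'.emb s * g⁻¹ := hPe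
  obtain ⟨a₁, ha₁, e₁⟩ := hex t₀ v₄_mem.2.2
  obtain ⟨a₂, ha₂, e₂⟩ := hex (1, v₄) v₄_mem.1
  obtain ⟨a₃, ha₃, e₃⟩ := hex (1, w₄) (by decide +kernel)
  have hgact : ∀ s, s ∈ S₀ → g * D'.emb s * g⁻¹ = D'.emb (lin (a₁, a₂, a₃) s) := by
    intro s hs
    conv_lhs => rw [← lin_basis s hs]
    simp only [lin, map_mul]
    have hmul : ∀ x y : G, g * (x * y) * g⁻¹ = (g * x * g⁻¹) * (g * y * g⁻¹) := fun x y => by group
    rw [hmul, hmul]
    split_ifs <;> simp [e₁, e₂, e₃]
  have hmem : ∀ s, s ∈ S₀ → lin (a₁, a₂, a₃) s ∈ S₀ := by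
    intro s hs
    obtain ⟨s', hs', he⟩ := hex s hs
    rw [hgact s hs] at he
    rwa [← D'.emb_injective he]
  have hne : a₁ ≠ t₀ ∧ a₁ ≠ 1 := by
    constructor
    · rintro rfl
      rw [D'.emb_t₀] at e₁
      exact D'.seven_moves hg7 e₁.symm
    · rintro rfl
      rw [map_one, D'.emb_t₀, eq_comm, conj_eq_one_iff] at e₁
      have := D'.ht
      rw [e₁, orderOf_one] at this
      omega
  have hrel : ∀ s, s ∈ S₀ → lin (a₁, a₂, a₃) (lin (a₁, a₂, a₃) (conjX s)) =
      conjX (lin (a₁, a₂, a₃) s) := by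
    intro s hs
    have hcs : conjX s ∈ S₀ := nrm_x₃ s hs
    refine D'.emb_injective ?_
    rw [← hgact _ (hmem _ hcs), ← hgact _ hcs]
    simp only [conjX, map_mul, map_inv, ← hgact s hs]
    calc g * (g * (D'.emb (1, x₃) * D'.emb s * (D'.emb (1, x₃))⁻¹) * g⁻¹) * g⁻¹
        = g ^ 2 * (D'.emb (1, x₃) * D'.emb s * (D'.emb (1, x₃))⁻¹) * (g ^ 2)⁻¹ := by
          rw [pow_two]; group
      _ = _ := by rw [← hD']; group
  have hinj : ∀ s, s ∈ S₀ → lin (a₁, a₂, a₃) s = 1 → s = 1 := by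
    intro s hs h1
    have h2 := hgact s hs
    rw [h1, map_one, conj_eq_one_iff] at h2
    exact D'.emb_injective (by rw [h2, map_one])
  obtain ⟨hl1, hl2⟩ := S₀list_spec
  obtain ⟨n, hn⟩ := lin_classify a₁ (hl1 _ ha₁) a₂ (hl1 _ ha₂) a₃ (hl1 _ ha₃) hne.1 hne.2
    (fun s hs => hrel s (hl2 s hs)) (fun s hs => hinj s (hl2 s hs))
  have hpow : ∀ j : ℕ, ∀ s, s ∈ S₀ → (lin (a₁, a₂, a₃))^[j] s ∈ S₀ ∧
      g ^ j * D'.emb s * (g ^ j)⁻¹ = D'.emb ((lin (a₁, a₂, a₃))^[j] s) := by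
    intro j
    induction j with
    | zero => intro s hs; simp [hs]
    | succ j ih =>
      intro s hs
      rw [Function.iterate_succ_apply', pow_succ']
      obtain ⟨h1, h2⟩ := ih s hs
      refine ⟨hmem _ h1, ?_⟩
      rw [← hgact _ h1, ← h2]
      group
  refine ⟨D', g ^ (n : ℕ), by rw [← pow_mul, mul_comm, pow_mul, h7', one_pow], fun s hs => ?_, ?_⟩
  · rw [(hpow n s hs).2, hn s (hl1 s hs)]
  · rw [← conj_pow, hD', ← pow_mul, ← pow_mul, mul_comm]

/-- An element of order five of the centralizer of `(1, x₃)` in the centralizer of an involution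
inverting it. -/
theorem exists_r [IsSimpleGroup G] (hG : Nat.card G = 175560) :
    ∃ v : C₀, (v = (1, v₂) ∨ v = (tu, v₂)) ∧ ∃ r : G, r ^ 5 = 1 ∧ r ≠ 1 ∧
      r * D.emb v = D.emb v * r ∧ D.t * r * D.t⁻¹ = r⁻¹ ∧
      D.emb (1, x₃) * r = r * D.emb (1, x₃) := by
  classical
  obtain ⟨hv, hv1, hv2, hv3, hv4, hx3, hx1, hx2, htx, htv⟩ := W₀_v
  set x := D.emb (1, x₃) with hx
  have hox : orderOf x = 3 := by
    have : Fact (Nat.Prime 3) := ⟨by norm_num⟩
    refine orderOf_eq_prime ?_ (fun h => hx1 (D.emb_injective (by rw [← hx, h, map_one])))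
    rw [hx, ← map_pow, show ((1, x₃) : C₀) ^ 3 = 1 by rw [pow_succ, sq]; exact hx3, map_one]
  set C := centralizer ({x} : Set G) with hC
  have hCmem : ∀ {a : G}, a ∈ C ↔ a * x = x * a := mem_centralizer_singleton_iff
  have htC : D.t ∈ C := hCmem.2 (by rw [hx, ← D.emb_t₀, ← map_mul, ← map_mul, htx])
  have hxC : x ∈ C := hCmem.2 rfl
  have hfix : ∀ a ∈ C, a * D.t = D.t * a → ∃ c, D.emb c = a ∧ c * (1, x₃) = (1, x₃) * c := by
    intro a ha hat
    obtain ⟨c, hc⟩ := D.exists_emb (mem_centralizer_singleton_iff.2 hat)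
    refine ⟨c, hc, D.emb_injective ?_⟩
    rw [map_mul, map_mul, hc]
    exact hCmem.1 ha
  have hsix : Nat.card ↥(C ⊓ centralizer ({D.t} : Set G)) = 6 := by
    rw [← cent_x₃, ← Nat.card_eq_finsetCard]
    refine (Nat.card_congr (Equiv.ofBijective (fun c : {c // c ∈ (Finset.univ.filter fun c : C₀ =>
      c * (1, x₃) = (1, x₃) * c)} => (⟨D.emb c.1, hCmem.2 (by
        rw [hx, ← map_mul, ← map_mul]; exact congrArg D.emb (Finset.mem_filter.1 c.2).2),
        D.emb_mem _⟩ : ↥(C ⊓ centralizer ({D.t} : Set G)))) ⟨?_, ?_⟩)).symm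
    · intro a b hab
      simp only [Subtype.mk.injEq] at hab
      exact Subtype.ext (D.emb_injective (congrArg Subtype.val hab :))
    · rintro ⟨a, ha1, ha2⟩
      obtain ⟨c, hc, hcc⟩ := hfix a ha1 (mem_centralizer_singleton_iff.1 ha2)
      exact ⟨⟨c, by simpa using hcc⟩, Subtype.ext hc⟩
  have hC6 : 6 ∣ Nat.card C := hsix ▸ card_dvd_of_le inf_le_left
  have hGC : Nat.card C ∣ Nat.card G := card_subgroup_dvd_card _
  -- the Sylow 2-subgroup of `C` is `⟨t⟩`
  have : Fact (Nat.Prime 2) := ⟨Nat.prime_two⟩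
  have hp : IsPGroup 2 (zpowers (⟨D.t, htC⟩ : C)) := IsPGroup.of_card (n := 1) (by
    rw [Nat.card_zpowers, Subgroup.orderOf_mk, D.ht, pow_one])
  obtain ⟨T, hT⟩ := hp.exists_le_sylow
  have hT2 : Nat.card (T : Subgroup C) = 2 := by
    obtain ⟨Q, hQ⟩ := (T.isPGroup'.map C.subtype).exists_le_sylow
    have hcomm : ∀ a ∈ (Q : Subgroup G), ∀ b ∈ (Q : Subgroup G), a * b = b * a := by
      obtain ⟨g, hg⟩ := MulAction.exists_smul_eq G D.P Q
      intro a ha b hb
      rw [← hg, Sylow.coe_subgroup_smul] at ha hb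
      obtain ⟨a', ha', rfl⟩ := ha
      obtain ⟨b', hb', rfl⟩ := hb
      have := congrArg Subtype.val (D.P_comm.is_comm.comm ⟨a', ha'⟩ ⟨b', hb'⟩)
      simp only [Subgroup.coe_mul] at this
      show (MulAut.conj g) a' * (MulAut.conj g) b' = (MulAut.conj g) b' * (MulAut.conj g) a'
      rw [← map_mul, ← map_mul, this]
    have htT : (⟨D.t, htC⟩ : C) ∈ (T : Subgroup C) := hT (mem_zpowers _)
    have hle : (T : Subgroup C).map C.subtype ≤ C ⊓ centralizer ({D.t} : Set G) := by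
      intro a ha
      refine ⟨map_subtype_le _ ha, mem_centralizer_singleton_iff.2 ?_⟩
      exact hcomm a (hQ ha) D.t (hQ ⟨_, htT, rfl⟩)
    have h6 := card_dvd_of_le hle
    rw [card_map_of_injective C.subtype_injective, hsix] at h6
    obtain ⟨k, hk⟩ := IsPGroup.iff_card.1 T.isPGroup'
    have h2 : 2 ≤ Nat.card (T : Subgroup C) := by
      have := card_le_of_le hT
      rwa [Nat.card_zpowers, Subgroup.orderOf_mk, D.ht] at this
    rw [hk] at h6 h2 ⊢
    have hk2 : k < 2 := by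
      by_contra hc
      have := (pow_dvd_pow 2 (by omega : 2 ≤ k)).trans h6
      norm_num at this
    interval_cases k <;> simp_all
  -- `C` is not of order six
  have : Fact (Nat.Prime 3) := ⟨by norm_num⟩
  have hne6 : Nat.card C ≠ 6 := by
    intro h6
    have h3 : Nat.card (zpowers x) = 3 := by rw [Nat.card_zpowers, hox]
    obtain ⟨Q, hQ⟩ := (IsPGroup.of_card (n := 1) (by rw [h3, pow_one]) : IsPGroup 3 (zpowers x)).exists_le_sylow
    have hQ3 : Nat.card (Q : Subgroup G) = 3 := by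
      obtain ⟨k, hk⟩ := IsPGroup.iff_card.1 Q.isPGroup'
      have h1 : 3 ^ k ∣ 175560 := hG ▸ hk ▸ card_subgroup_dvd_card _
      have h2 : 3 ≤ 3 ^ k := by
        have := card_le_of_le hQ
        omega
      have : k < 2 := by
        by_contra hc
        have := (pow_dvd_pow 3 (by omega : 2 ≤ k)).trans h1
        norm_num at this
      interval_cases k <;> simp_all
    have hQx : (Q : Subgroup G) = zpowers x := (eq_of_le_of_card_ge hQ (by rw [hQ3, h3])).symm
    have hN : Nat.card (Sylow 3 G) = (normalizer ((zpowers x : Subgroup G) : Set G)).index := by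
      rw [← hQx]; exact Sylow.card_eq_index_normalizer Q
    set N := normalizer ((zpowers x : Subgroup G) : Set G) with hNdef
    have hconj : ∀ b ∈ N, b * x * b⁻¹ = x ∨ b * x * b⁻¹ = x⁻¹ := by
      intro b hb
      have h1 : b * x * b⁻¹ ∈ zpowers x := (mem_normalizer_iff.1 hb x).1 (mem_zpowers x)
      obtain ⟨j, hj⟩ := (isOfFinOrder_of_finite x).mem_powers_iff_mem_zpowers.2 h1
      simp only at hj
      have hj3 : x ^ j = x ^ (j % 3) := by rw [← hox, pow_mod_orderOf]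
      rw [← hj, hj3]
      have := Nat.mod_lt j (by norm_num : 0 < 3)
      interval_cases h : j % 3
      · exfalso
        rw [hj3, pow_zero, eq_comm, conj_eq_one_iff] at hj
        rw [hj, orderOf_one] at hox
        omega
      · exact Or.inl (pow_one x)
      · refine Or.inr (eq_inv_of_mul_eq_one_left ?_)
        have h3 := pow_orderOf_eq_one x
        rw [hox, pow_succ] at h3
        exact h3
    have hvN : D.emb (1, v₂) * x * (D.emb (1, v₂))⁻¹ = x⁻¹ := by
      rw [hx, conj_emb, hv, map_inv]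
    have hCN : C ≤ N := by
      intro a ha
      rw [hNdef, hC] at *
      refine (centralizer_le_normalizer _) ?_
      rw [mem_centralizer_iff]
      intro b hb
      obtain ⟨j, rfl⟩ := mem_zpowers_iff.1 hb
      exact ((Commute.zpow_right (hCmem.1 ha) j).eq).symm
    have hidx : C.relIndex N = 2 := by
      refine index_eq_two_iff.2 ⟨⟨D.emb (1, v₂), ?_⟩, fun b => ?_⟩
      · rw [hNdef, mem_normalizer_iff_map_conj_eq, MonoidHom.map_zpowers]
        show zpowers (MulAut.conj (D.emb (1, v₂)) x) = zpowers x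
        rw [MulAut.conj_apply, hvN, zpowers_inv]
      · simp only [mem_subgroupOf, coe_mul]
        have key : ∀ a : G, a ∈ C ↔ a * x * a⁻¹ = x := fun a => by
          rw [hCmem, mul_inv_eq_iff_eq_mul]
        have hinvne : x⁻¹ ≠ x := fun h => hx2 (D.emb_injective (by rw [map_inv, ← hx, h]))
        have e : (b : G) * D.emb (1, v₂) * x * ((b : G) * D.emb (1, v₂))⁻¹ =
            ((b : G) * x * (b : G)⁻¹)⁻¹ := by
          calc _ = (b : G) * (D.emb (1, v₂) * x * (D.emb (1, v₂))⁻¹) * (b : G)⁻¹ := by group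
            _ = _ := by rw [hvN]; group
        rcases hconj b b.2 with h | h
        · refine Or.inr ⟨(key _).2 h, fun h' => hinvne ?_⟩
          rw [key, e, h] at h'
          exact h'
        · refine Or.inl ⟨(key _).2 (by rw [e, h, inv_inv]), fun h' => hinvne ?_⟩
          rw [key, h] at h'
          exact h'
    have h1 := card_mul_index N
    have h2 := relIndex_mul_index hCN
    have h4 := card_mul_index C
    rw [hidx] at h2
    rw [h6, hG] at h4
    rw [← hN] at h2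
    have h3m := card_sylow_modEq_one 3 G
    rw [Nat.ModEq] at h3m
    omega
  -- the odd part `K`
  have hnc : normalizer ((T : Subgroup C) : Set C) ≤ centralizer ((T : Subgroup C) : Set C) := by
    have hcy : IsCyclic (T : Subgroup C) := isCyclic_of_prime_card hT2
    exact hcy.normalizer_le_centralizer (by
      have : (Nat.card C).minFac = 2 := Nat.minFac_eq_two_iff _ |>.2 (dvd_trans (by norm_num) hC6)
      exact this)
  set K' := (MonoidHom.transferSylow T hnc).ker with hK'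
  have hK'c : Nat.card K' * 2 = Nat.card C :=
    hT2 ▸ (MonoidHom.ker_transferSylow_isComplement' T hnc).card_mul_card
  have hodd : ¬ 2 ∣ Nat.card K' := by
    intro h
    have h4 : 2 ^ 2 ∣ Nat.card C := by
      rw [← hK'c, sq]; exact Nat.mul_dvd_mul_right h 2
    have := Sylow.pow_dvd_card_of_pow_dvd_card T h4
    rw [hT2] at this
    norm_num at this
  have hodd_iff : ∀ a : C, a ∈ K' ↔ Odd (orderOf a) := by
    intro a
    constructor
    · intro ha
      have h1 : orderOf (⟨a, ha⟩ : K') ∣ Nat.card K' := orderOf_dvd_natCard _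
      rw [Subgroup.orderOf_mk] at h1
      exact Odd.of_dvd_nat (Nat.odd_iff.2 (by omega)) h1
    · intro ha
      rw [hK', MonoidHom.mem_ker, ← orderOf_eq_one_iff]
      have h1 : orderOf (MonoidHom.transferSylow T hnc a) ∣ orderOf a := orderOf_map_dvd _ _
      have h2 : orderOf (MonoidHom.transferSylow T hnc a) ∣ 2 :=
        (orderOf_dvd_natCard (MonoidHom.transferSylow T hnc a)).trans hT2.dvd
      have h3 := Nat.dvd_gcd h1 h2
      rw [Nat.Coprime.gcd_eq_one (Nat.coprime_two_right.2 ha)] at h3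
      exact Nat.eq_one_of_dvd_one h3
  set K := K'.map C.subtype with hK
  have hKc : Nat.card K = Nat.card K' := card_map_of_injective C.subtype_injective
  have hKmem : ∀ a, a ∈ K ↔ a ∈ C ∧ Odd (orderOf a) := by
    intro a
    constructor
    · rintro ⟨b, hb, rfl⟩
      exact ⟨b.2, by rw [orderOf_injective C.subtype C.subtype_injective]; exact (hodd_iff b).1 hb⟩
    · rintro ⟨h1, h2⟩
      exact ⟨⟨a, h1⟩, (hodd_iff _).2 (by rwa [Subgroup.orderOf_mk]), rfl⟩
  set W := W₀.map D.emb with hW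
  have hWK : W ≤ normalizer (K : Set G) := by
    rintro _ ⟨c, hc, rfl⟩
    have hWC : ∀ a, a ∈ C → D.emb c * a * (D.emb c)⁻¹ ∈ C := by
      intro a ha
      rw [hCmem]
      rcases W₀_inverts c hc with h | h
      · have e : x = D.emb c * x * (D.emb c)⁻¹ := by rw [hx, conj_emb, h]
        conv_lhs => arg 2; rw [e]
        conv_rhs => arg 1; rw [e]
        calc _ = D.emb c * (a * x) * (D.emb c)⁻¹ := by group
          _ = D.emb c * (x * a) * (D.emb c)⁻¹ := by rw [hCmem.1 ha]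
          _ = _ := by group
      · have e : x = D.emb c * x⁻¹ * (D.emb c)⁻¹ := by
          rw [hx, ← map_inv, conj_emb]
          congr 1
          calc ((1, x₃) : C₀) = (((1, x₃) : C₀)⁻¹)⁻¹ := (inv_inv _).symm
            _ = (c * (1, x₃) * c⁻¹)⁻¹ := by rw [h]
            _ = c * ((1, x₃) : C₀)⁻¹ * c⁻¹ := by rw [mul_inv_rev, mul_inv_rev, inv_inv, mul_assoc]
        conv_lhs => arg 2; rw [e]
        conv_rhs => arg 1; rw [e]
        calc _ = D.emb c * (a * x⁻¹) * (D.emb c)⁻¹ := by group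
          _ = D.emb c * (x⁻¹ * a) * (D.emb c)⁻¹ := by rw [(Commute.inv_right (hCmem.1 ha)).eq]
          _ = _ := by group
    refine mem_normalizer_iff_map_conj_eq.2 (eq_of_le_of_card_ge ?_ ?_)
    · rintro _ ⟨a, ha, rfl⟩
      obtain ⟨h1, h2⟩ := (hKmem a).1 ha
      refine (hKmem _).2 ⟨hWC a h1, ?_⟩
      rwa [orderOf_injective _ (MulAut.conj _).injective]
    · exact (card_map_of_injective (MulAut.conj (D.emb c)).injective).ge
  have hWc : Nat.card W = 4 := by rw [hW, card_map_of_injective D.emb_injective, card_W₀]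
  have hcop : (Nat.card W).Coprime (Nat.card K) := by
    rw [hWc, hKc, show 4 = 2 ^ 2 by norm_num]
    exact Nat.Coprime.pow_left _ ((Nat.Prime.coprime_iff_not_dvd Nat.prime_two).2 hodd)
  have hWcomm : IsMulCommutative W := by
    refine ⟨⟨?_⟩⟩
    rintro ⟨_, a, ha, rfl⟩ ⟨_, b, hb, rfl⟩
    have key : ∀ a b : A, (a = 1 ∨ a = v₂) → (b = 1 ∨ b = v₂) → a * b = b * a := by decide +kernel
    exact Subtype.ext (show D.emb a * D.emb b = D.emb b * D.emb a by
      rw [← map_mul, ← map_mul]; exact congrArg D.emb (Prod.ext (mul_comm _ _) (key _ _ ha hb)))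
  -- a prime other than three
  obtain ⟨p, hpp, hpd, hp3⟩ : ∃ p, p.Prime ∧ p ∣ Nat.card K ∧ p ≠ 3 := by
    obtain ⟨j, hj⟩ : 3 ∣ Nat.card K := by rw [hKc]; omega
    have hj1 : j ≠ 1 := by rintro rfl; omega
    obtain ⟨p, hpp, hpj⟩ := Nat.exists_prime_and_dvd hj1
    refine ⟨p, hpp, hj ▸ Dvd.dvd.mul_left hpj 3, ?_⟩
    rintro rfl
    have h9 : 9 ∣ Nat.card K := hj ▸ (show 9 = 3 * 3 by norm_num) ▸ Nat.mul_dvd_mul_left 3 hpj
    have : 9 ∣ Nat.card G := h9.trans ((card_dvd_of_le (map_subtype_le K')).trans hGC)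
    rw [hG] at this
    norm_num at this
  have := Fact.mk hpp
  have hsol : Group.IsSolvable W := by
    letI : CommGroup W := { (inferInstance : Group W) with mul_comm := hWcomm.is_comm.comm }
    exact inferInstance
  obtain ⟨Q, hQW⟩ := exists_invariant_sylow hWK hcop (Or.inl hsol) p
  set R := (Q : Subgroup K).map K.subtype with hR
  have hRK : R ≤ K := map_subtype_le _
  have hRp : IsPGroup p R := Q.isPGroup'.map _
  have hR1 : p ∣ Nat.card R := by
    rw [hR, card_map_of_injective K.subtype_injective]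
    exact Q.dvd_card_of_dvd_card hpd
  obtain ⟨k, hk⟩ := IsPGroup.iff_card.1 hRp
  have hRcard : Nat.card R = p := by
    have h1 : Nat.card R ∣ 175560 := hG ▸ card_subgroup_dvd_card R
    have hp2 : ¬ p ^ 2 ∣ 175560 := by
      intro h
      have hp2le : p ≤ 419 := by
        have := Nat.le_of_dvd (by norm_num) h
        nlinarith
      have hpne : p ≠ 2 := by
        rintro rfl
        exact hodd (hKc ▸ hpd)
      have : ∀ q ≤ 419, q ≠ 2 → q ≠ 1 → ¬ q ^ 2 ∣ 175560 := by decide +kernel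
      exact this p hp2le hpne hpp.one_lt.ne' h
    rw [hk] at h1 hR1 ⊢
    rcases k with _ | _ | k
    · simp only [pow_zero, Nat.dvd_one] at hR1
      exact absurd hR1 hpp.one_lt.ne'
    · simp
    · exact absurd ((pow_dvd_pow p (by omega : 2 ≤ k + 1 + 1)).trans h1) hp2
  obtain ⟨q, hq⟩ := exists_prime_orderOf_dvd_card' (G := R) p (by rw [hRcard])
  have hqo : orderOf (q : G) = p := by
    rw [← hq]; exact orderOf_injective R.subtype R.subtype_injective q
  have hqC : (q : G) ∈ C := ((hKmem _).1 (hRK q.2)).1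
  have hR' : R = zpowers (q : G) := (eq_of_le_of_card_ge (zpowers_le.2 q.2)
    (by rw [hRcard, Nat.card_zpowers, hqo])).symm
  -- each involution of `W` centralises or inverts `q`
  have hact : ∀ u ∈ W, u * u = 1 → u * q * u⁻¹ = q ∨ u * q * u⁻¹ = (q : G)⁻¹ := by
    intro u hu hu2
    have h1 : u * q * u⁻¹ ∈ R := (mem_normalizer_iff.1 (hQW hu) _).1 q.2
    replace h1 : u * (q : G) * u⁻¹ ∈ zpowers (q : G) := hR'.le h1
    obtain ⟨j, hj⟩ := (isOfFinOrder_of_finite (q : G)).mem_powers_iff_mem_zpowers.2 h1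
    simp only at hj
    have h2 : (q : G) ^ (j * j) = q := by
      rw [pow_mul, hj, conj_pow, hj]
      calc u * (u * ↑q * u⁻¹) * u⁻¹ = (u * u) * ↑q * (u * u)⁻¹ := by group
        _ = q := by rw [hu2]; group
    have h3 : ((j : ZMod p)) * j = 1 := by
      conv_rhs at h2 => rw [← pow_one (q : G)]
      rw [pow_inj_mod, hqo] at h2
      have h4 := congrArg (Nat.cast : ℕ → ZMod p) h2
      rw [ZMod.natCast_mod, ZMod.natCast_mod] at h4
      exact_mod_cast h4
    rcases mul_self_eq_one_iff.1 h3 with h | h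
    · left
      rw [← hj]
      conv_rhs => rw [← pow_one (q : G)]
      rw [pow_inj_mod, hqo]
      have : ((j : ℕ) : ZMod p) = ((1 : ℕ) : ZMod p) := by simpa using h
      exact (ZMod.natCast_eq_natCast_iff' j 1 p).1 this
    · right
      rw [← hj, eq_inv_iff_mul_eq_one, ← pow_succ, ← orderOf_dvd_iff_pow_eq_one, hqo,
        ← CharP.cast_eq_zero_iff (ZMod p) p, Nat.cast_add, h]
      simp
  have hmW : ∀ c, c ∈ W₀ → D.emb c ∈ W := fun c hc => ⟨c, hc, rfl⟩
  have htq : D.t * q * D.t⁻¹ = (q : G)⁻¹ := by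
    refine (hact D.t (D.emb_t₀ ▸ hmW t₀ ((W₀_elems _).2 (Or.inr (Or.inl rfl))))
      (by rw [← D.emb_t₀, ← map_mul, pow15.2.2, map_one])).resolve_left fun h => ?_
    have hmem : (q : G) ∈ C ⊓ centralizer ({D.t} : Set G) :=
      ⟨hqC, mem_centralizer_singleton_iff.2 (mul_inv_eq_iff_eq_mul.1 h).symm⟩
    have hd : orderOf (q : G) ∣ 6 := by
      rw [← hsix, ← Subgroup.orderOf_mk _ hmem]
      exact orderOf_dvd_natCard _
    rw [hqo] at hd
    have key : ∀ n ≤ 6, n ∣ 6 → n = 1 ∨ n = 2 ∨ n = 3 ∨ n = 6 := by decide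
    have hp2 : p ≠ 2 := fun h2 => hodd (hKc ▸ h2 ▸ hpd)
    rcases key p (Nat.le_of_dvd (by norm_num) hd) hd with h' | h' | h' | h'
    · exact hpp.ne_one h'
    · exact hp2 h'
    · exact hp3 h'
    · exact absurd (h' ▸ hpp) (by norm_num)
  obtain ⟨v, hvv, hvq⟩ : ∃ v : C₀, (v = (1, v₂) ∨ v = (tu, v₂)) ∧
      D.emb v * q * (D.emb v)⁻¹ = q := by
    rcases hact (D.emb (1, v₂)) (hmW _ ((W₀_elems _).2 (Or.inr (Or.inr (Or.inl rfl)))))
      (by rw [← map_mul, hv1, map_one]) with h | h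
    · exact ⟨(1, v₂), Or.inl rfl, h⟩
    · refine ⟨(tu, v₂), Or.inr rfl, ?_⟩
      rw [htv, map_mul, D.emb_t₀]
      calc D.t * D.emb (1, v₂) * q * (D.t * D.emb (1, v₂))⁻¹
          = D.t * (D.emb (1, v₂) * q * (D.emb (1, v₂))⁻¹) * D.t⁻¹ := by group
        _ = D.t * (q : G)⁻¹ * D.t⁻¹ := by rw [h]
        _ = (D.t * q * D.t⁻¹)⁻¹ := by group
        _ = q := by rw [htq, inv_inv]
  have hcomm : (q : G) * D.emb v = D.emb v * q := (mul_inv_eq_iff_eq_mul.1 hvq).symm
  refine ⟨v, hvv, q, ?_, fun h => ?_, hcomm, htq, (hCmem.1 hqC).symm⟩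
  · -- the order is five
    have hvo : orderOf (D.emb v) = 2 := by
      refine orderOf_eq_prime ?_ fun h => ?_
      · rcases hvv with rfl | rfl
        · rw [sq, ← map_mul, hv1, map_one]
        · rw [sq, ← map_mul, hv2, map_one]
      · rcases hvv with rfl | rfl
        · exact hv3 (D.emb_injective (by rw [h, map_one]))
        · exact hv4 (D.emb_injective (by rw [h, map_one]))
    obtain ⟨u, hu⟩ := isConj_iff.1 (D.isConj_t hvo)
    have hmem : u⁻¹ * q * u ∈ centralizer ({D.t} : Set G) := by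
      refine mem_centralizer_singleton_iff.2 ?_
      rw [show D.t = u⁻¹ * D.emb v * u by rw [← hu]; group]
      calc u⁻¹ * ↑q * u * (u⁻¹ * D.emb v * u) = u⁻¹ * (↑q * D.emb v) * u := by group
        _ = u⁻¹ * (D.emb v * ↑q) * u := by rw [hcomm]
        _ = _ := by group
    have hd : orderOf (u⁻¹ * (q : G) * u) ∣ 120 := by
      rw [← card_C₀, ← Nat.card_congr D.e.toEquiv, ← Subgroup.orderOf_mk _ hmem]
      exact orderOf_dvd_natCard _
    rw [show u⁻¹ * (q : G) * u = (MulAut.conj u⁻¹).toMonoidHom q by simp,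
      orderOf_injective _ (MulAut.conj _).injective, hqo] at hd
    have hp2 : p ≠ 2 := fun h2 => hodd (hKc ▸ h2 ▸ hpd)
    have hp5 : p = 5 := by
      have : p ≤ 120 := Nat.le_of_dvd (by norm_num) hd
      have key : ∀ n ≤ 120, n.Prime → n ∣ 120 → n ≠ 2 → n ≠ 3 → n = 5 := by decide +kernel
      exact key p this hpp hd hp2 hp3
    rw [← hp5, ← hqo, pow_orderOf_eq_one]
  · rw [h, orderOf_one] at hqo
    exact hpp.one_lt.ne' hqo.symm

end Setup

end Cfsg.Agent.Coprime.J1
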