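import Cfsg.Agent.Coprime.J1.Local
import Cfsg.Agent.Coprime.Action
import Mathlib.GroupTheory.Transfer

/-!
# Facts about the model used for the generators

An element of order seven normalising `S₀` with a prescribed action, and an element of order five
in the centralizer of `x₃` and of an involution inverting `x₃`.
-/

set_option autoImplicit false
set_option Elab.async false
set_option synthInstance.maxSize 1000
set_option synthInstance.maxHeartbeats 200000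

namespace Cfsg.Agent.Coprime.J1

open Subgroup Equiv

/-- The second involution of the four-group of `A₅` fixing the last point. -/
def w₄ : A := ⟨swap 0 2 * swap 1 3, Perm.mem_alternatingGroup.2 (by decide +kernel)⟩

/-- The images of `t₀`, `v₄`, `w₄` under a triple, extended to `S₀`. -/
def lin (a : C₀ × C₀ × C₀) (s : C₀) : C₀ :=
  (if s.1 = tu then a.1 else 1) *
    (if (s.2 : Perm (Fin 5)) 0 = 1 ∨ (s.2 : Perm (Fin 5)) 0 = 3 then a.2.1 else 1) *
    (if (s.2 : Perm (Fin 5)) 0 = 2 ∨ (s.2 : Perm (Fin 5)) 0 = 3 then a.2.2 else 1)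

theorem lin_basis : ∀ s : C₀, s ∈ S₀ → lin (t₀, (1, v₄), (1, w₄)) s = s := by decide +kernel

/-- The standard images. -/
def stdImg : C₀ × C₀ × C₀ := ((1, w₄), (tu, w₄), (1, v₄))

/-- The action of `(1, x₃)`. -/
def conjX (s : C₀) : C₀ := (1, x₃) * s * ((1 : Multiplicative (ZMod 2)), x₃)⁻¹

/-- The list of elements of `S₀`. -/
def S₀list : List C₀ :=
  [1, t₀, (1, v₄), (1, w₄), (1, v₄ * w₄), (tu, v₄), (tu, w₄), (tu, v₄ * w₄)]

theorem S₀list_spec : (∀ s : C₀, s ∈ S₀ → s ∈ S₀list) ∧ ∀ s ∈ S₀list, s ∈ S₀ := by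
  constructor <;> decide +kernel

/-- Linear maps of `S₀` that `(1, x₃)` conjugates to their square and which move `t₀` are powers of
the standard one. -/
theorem lin_classify : ∀ a₁ ∈ S₀list, ∀ a₂ ∈ S₀list, ∀ a₃ ∈ S₀list, a₁ ≠ t₀ → a₁ ≠ 1 →
    (∀ s ∈ S₀list, lin (a₁, a₂, a₃) (lin (a₁, a₂, a₃) (conjX s)) = conjX (lin (a₁, a₂, a₃) s)) →
    (∀ s ∈ S₀list, lin (a₁, a₂, a₃) s = 1 → s = 1) →
    ∃ k : Fin 7, ∀ s ∈ S₀list, (lin (a₁, a₂, a₃))^[(k : ℕ)] s = lin stdImg s := by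
  decide +kernel

/-- Conjugation of `A₅` by a transposition. -/
def flipS (a : A) : A :=
  ⟨swap 0 1 * (a : Perm (Fin 5)) * swap 0 1, Perm.mem_alternatingGroup.2 (by
    rw [map_mul, map_mul, Perm.mem_alternatingGroup.1 a.2, Perm.sign_swap (by decide)]
    decide)⟩

theorem flipS_flipS : ∀ a : A, flipS (flipS a) = a := by decide +kernel

theorem flipS_mul : ∀ a b : A, flipS (a * b) = flipS a * flipS b := fun a b => Subtype.ext (by
  show swap 0 1 * ((a : Perm (Fin 5)) * (b : Perm (Fin 5))) * swap 0 1 =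
    swap 0 1 * (a : Perm (Fin 5)) * swap 0 1 * (swap 0 1 * (b : Perm (Fin 5)) * swap 0 1)
  simp only [mul_assoc, swap_mul_self_mul])

/-- The automorphism of the model used to fix the orientation. -/
def flipA : C₀ ≃* C₀ where
  toFun c := (c.1, flipS c.2)
  invFun c := (c.1, flipS c.2)
  left_inv c := Prod.ext rfl (flipS_flipS c.2)
  right_inv c := Prod.ext rfl (flipS_flipS c.2)
  map_mul' a b := Prod.ext rfl (flipS_mul a.2 b.2)

theorem flipA_facts : flipA ((1 : Multiplicative (ZMod 2)), x₃) = ((1, x₃) : C₀)⁻¹ ∧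
    (∀ s, s ∈ S₀ → flipA s ∈ S₀) ∧ ∀ s, flipA (flipA s) = s := by
  refine ⟨?_, ?_, fun s => Prod.ext rfl (flipS_flipS s.2)⟩
  · decide +kernel
  · decide +kernel

theorem nrm_x₃ : Nrm ((1 : Multiplicative (ZMod 2)), x₃) := by decide +kernel

theorem order_three_nrm : ∀ r : C₀, r * r * r = 1 → r ≠ 1 → Nrm r →
    ∃ s : C₀, s ∈ S₀ ∧ (s * r * s⁻¹ = ((1 : Multiplicative (ZMod 2)), x₃) ∨
      s * r * s⁻¹ = ((1, x₃) : C₀)⁻¹) := by
  decide +kernel

theorem fix_x₃ : ∀ s : C₀, s ∈ S₀ → conjX s = s → s = 1 ∨ s = t₀ := by decide +kernel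

theorem cent_x₃ : ((Finset.univ : Finset C₀).filter fun c =>
    c * ((1 : Multiplicative (ZMod 2)), x₃) = ((1 : Multiplicative (ZMod 2)), x₃) * c).card = 6 := by
  decide +kernel

/-- The four-group used on the centralizer of `x₃`. -/
def W₀ : Subgroup C₀ where
  carrier := {c | c.2 = 1 ∨ c.2 = v₂}
  one_mem' := Or.inl rfl
  mul_mem' := fun {a b} ha hb => by
    have key : ∀ a b : A, (a = 1 ∨ a = v₂) → (b = 1 ∨ b = v₂) → (a * b = 1 ∨ a * b = v₂) := by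
      decide +kernel
    exact key a.2 b.2 ha hb
  inv_mem' := fun {a} ha => by
    have key : ∀ a : A, (a = 1 ∨ a = v₂) → (a⁻¹ = 1 ∨ a⁻¹ = v₂) := by decide +kernel
    exact key a.2 ha

theorem W₀_elems : ∀ c : C₀, c ∈ W₀ ↔ c = 1 ∨ c = t₀ ∨ c = (1, v₂) ∨ c = (tu, v₂) := by
  intro c
  show (c.2 = 1 ∨ c.2 = v₂) ↔ _
  revert c
  decide +kernel

theorem card_W₀ : Nat.card W₀ = 4 := by
  have : Nat.card W₀ = ((Finset.univ : Finset C₀).filter fun c => c.2 = 1 ∨ c.2 = v₂).card := by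
    rw [← Nat.card_eq_finsetCard]
    exact Nat.card_congr (Equiv.subtypeEquivRight fun c => by simp [W₀])
  rw [this]
  decide +kernel

theorem W₀_inverts : ∀ c : C₀, c ∈ W₀ →
    c * ((1 : Multiplicative (ZMod 2)), x₃) * c⁻¹ = (1, x₃) ∨
    c * ((1 : Multiplicative (ZMod 2)), x₃) * c⁻¹ = ((1, x₃) : C₀)⁻¹ := by
  intro c hc
  rcases (W₀_elems c).1 hc with rfl | rfl | rfl | rfl <;> decide +kernel

theorem W₀_v : ((1 : Multiplicative (ZMod 2)), v₂) * (1, x₃) *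
    ((1 : Multiplicative (ZMod 2)), v₂)⁻¹ = ((1, x₃) : C₀)⁻¹ ∧
    ((1, v₂) : C₀) * (1, v₂) = 1 ∧ ((tu, v₂) : C₀) * (tu, v₂) = 1 ∧
    ((1, v₂) : C₀) ≠ 1 ∧ ((tu, v₂) : C₀) ≠ 1 ∧
    ((1, x₃) : C₀) * (1, x₃) * (1, x₃) = 1 ∧ ((1, x₃) : C₀) ≠ 1 ∧
    ((1, x₃) : C₀)⁻¹ ≠ (1, x₃) ∧ t₀ * (1, x₃) = ((1, x₃) : C₀) * t₀ ∧
    ((tu, v₂) : C₀) = t₀ * (1, v₂) := by
  decide +kernel

end Cfsg.Agent.Coprime.J1
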