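import Cfsg.Agent.Coprime.J1.Uniq.Words
import Cfsg.Agent.Coprime.J1.Uniq.Gens
import Mathlib.GroupTheory.GroupAction.Quotient

/-!
# Uniqueness of the simple group of order 175560 with an involution centralizer `2 × A₅`
-/

set_option autoImplicit false
set_option synthInstance.maxSize 1000
set_option synthInstance.maxHeartbeats 200000

namespace Cfsg.Agent.Coprime.J1.Uniq

open Subgroup Cfsg.Agent.Compute

variable {G : Type*} [Group G] (D : Setup G) (g : G)

/-- The value of a letter. -/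
def letG (l : ℕ) : G := if l = 3 then g else if l = 7 then g⁻¹ else D.emb (letC l)

/-- The value of a word. -/
def evG (w : List ℕ) : G := (w.map (letG D g)).prod

theorem evG_append (u v : List ℕ) : evG D g (u ++ v) = evG D g u * evG D g v := by
  simp [evG]

theorem evG_cons (a : ℕ) (w : List ℕ) : evG D g (a :: w) = letG D g a * evG D g w := by
  simp [evG]

theorem evG_model : ∀ w : List ℕ, (∀ l ∈ w, l ≠ 3 ∧ l ≠ 7) → evG D g w = D.emb (evalC w) := by
  intro w
  induction w with
  | nil => intro; simp [evG, evalC]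
  | cons a w ih =>
    intro h
    obtain ⟨h3, h7⟩ := h a (List.mem_cons_self ..)
    rw [evG_cons, ih fun l hl => h l (List.mem_cons_of_mem _ hl), letG, if_neg h3, if_neg h7,
      ← map_mul]
    simp [evalC]

theorem letG_linv {l : ℕ} (hl : l < 8) : letG D g (linv l) = (letG D g l)⁻¹ := by
  have key : ∀ l < 8, l ≠ 3 → l ≠ 7 →
      linv l ≠ 3 ∧ linv l ≠ 7 ∧ letC (linv l) = (letC l)⁻¹ := by decide +kernel
  have h37 : linv 3 = 7 ∧ linv 7 = 3 := by decide +kernel
  by_cases h3 : l = 3
  · subst h3; simp [h37.1, letG]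
  by_cases h7 : l = 7
  · subst h7; simp [h37.2, letG]
  obtain ⟨k1, k2, k3⟩ := key l hl h3 h7
  simp [letG, h3, h7, k1, k2, k3]

theorem evG_winv : ∀ w : List ℕ, (∀ l ∈ w, l < 8) → evG D g (winv w) = (evG D g w)⁻¹ := by
  intro w
  induction w with
  | nil => intro; simp [evG, winv]
  | cons a w ih =>
    intro h
    rw [winv_cons, evG_append, ih fun l hl => h l (List.mem_cons_of_mem _ hl), evG_cons, evG_cons,
      letG_linv D g (h a (List.mem_cons_self ..)), mul_inv_rev]
    simp [evG]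

theorem evG_replicate (k : ℕ) :
    evG D g (List.replicate k 3) = g ^ k ∧ evG D g (List.replicate k 7) = (g ^ k)⁻¹ := by
  simp [evG, letG, inv_pow]

/-- The letters acting on the cosets of the centralizer. -/
def act (l : ℕ) (x : G ⧸ centralizer ({D.t} : Set G)) : G ⧸ centralizer ({D.t} : Set G) :=
  (letG D g l)⁻¹ • x

theorem run_act : ∀ (w : List ℕ) (x : G ⧸ centralizer ({D.t} : Set G)),
    run (act D g) w x = (evG D g w)⁻¹ • x := by
  intro w
  induction w with
  | nil => intro x; simp [run, evG]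
  | cons a w ih =>
    intro x
    show run (act D g) w (act D g a x) = _
    rw [ih, evG_cons, mul_inv_rev, mul_smul]
    rfl

theorem letters : Letters (act D g) where
  id8 x := by simp [act, letG, letC]
  inv l hl x := by simp [act, letG_linv D g hl]

/-- The base coset. -/
def base : G ⧸ centralizer ({D.t} : Set G) := ((1 : G) : G ⧸ centralizer ({D.t} : Set G))

theorem smul_base {a : G} : a • base D = base D ↔ a ∈ centralizer ({D.t} : Set G) := by
  rw [base, MulAction.Quotient.smul_mk, smul_eq_mul, mul_one, QuotientGroup.eq, mul_one, inv_mem_iff]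

theorem fixed_base : ∀ l < 3, act D g l (base D) = base D := by
  intro l hl
  rw [act, smul_base, inv_mem_iff, letG, if_neg (by omega), if_neg (by omega)]
  exact D.emb_mem _

/-- The hypotheses on the element of order seven. -/
structure Seven : Prop where
  pow : g ^ 7 = 1
  conj : ∀ s, s ∈ S₀ → g * D.emb s * g⁻¹ = D.emb (lin stdImg s)
  sq : D.emb (1, x₃) * g * (D.emb (1, x₃))⁻¹ = g ^ 2

variable {D g}

theorem Seven.iter (h : Seven D g) : ∀ (k : ℕ) (s : C₀), s ∈ S₀ → (lin stdImg)^[k] s ∈ S₀ ∧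
    g ^ k * D.emb s * (g ^ k)⁻¹ = D.emb ((lin stdImg)^[k] s) := by
  intro k
  induction k with
  | zero => intro s hs; simp [hs]
  | succ k ih =>
    intro s hs
    rw [Function.iterate_succ_apply', pow_succ']
    obtain ⟨h1, h2⟩ := ih s hs
    refine ⟨lin_std_mem _ h1, ?_⟩
    rw [← h.conj _ h1, ← h2]
    group

theorem Seven.not_fix (h : Seven D g) : g ∉ centralizer ({D.t} : Set G) := by
  intro hg
  have h1 := h.conj t₀ v₄_mem.2.2
  rw [D.emb_t₀, mem_centralizer_singleton_iff.1 hg, mul_inv_cancel_right, ← D.emb_t₀] at h1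
  have : t₀ ≠ lin stdImg t₀ := by decide +kernel
  exact this (D.emb_injective h1)

theorem Seven.base_rels (h : Seven D g) : ∀ r ∈ baseRels, evG D g r = 1 := by
  obtain ⟨e1, e2, e3, e4, e5, e6, e7, e8, e9, ew, ex, ex'⟩ := rel_facts
  have hm : ∀ w : List ℕ, (∀ l ∈ w, l ≠ 3 ∧ l ≠ 7) → evalC w = 1 → evG D g w = 1 := by
    intro w hw he
    rw [evG_model D g w hw, he, map_one]
  have hg : letG D g 3 = g := by simp [letG]
  have hg' : letG D g 7 = g⁻¹ := by simp [letG]
  have hc : ∀ (s : C₀) (u u' : List ℕ), s ∈ S₀ → (∀ l ∈ u, l ≠ 3 ∧ l ≠ 7) →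
      (∀ l ∈ u', l ≠ 3 ∧ l ≠ 7) → evalC u = s → evalC u' = (lin stdImg s)⁻¹ →
      evG D g ([3] ++ u ++ [7] ++ u') = 1 := by
    intro s u u' hs hu hu' he he'
    rw [evG_append, evG_append, evG_append, evG_model D g u hu, evG_model D g u' hu', he, he']
    simp only [evG, List.map_cons, List.map_nil, List.prod_singleton, hg, hg', map_inv]
    rw [h.conj s hs, mul_inv_cancel]
  intro r hr
  simp only [baseRels, List.mem_cons, List.not_mem_nil, or_false] at hr
  rcases hr with rfl | rfl | rfl | rfl | rfl | rfl | rfl | rfl | rfl | rfl | rfl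
  · exact hm _ (by decide) e1
  · exact hm _ (by decide) e2
  · exact hm _ (by decide) e3
  · exact hm _ (by decide) e4
  · exact hm _ (by decide) e5
  · exact hm _ (by decide) e6
  · exact (evG_replicate D g 7).1.trans h.pow
  · exact hc t₀ [0] [6, 5, 2, 5, 6, 5, 2, 5, 6] v₄_mem.2.2 (by decide) (by decide)
      (by simp [evalC, letC]) e7
  · exact hc (1, v₄) [1] [6, 5, 2, 5, 6, 5, 2, 5, 6, 4] v₄_mem.1 (by decide) (by decide)
      (by simp [evalC, letC]) e8
  · exact hc (1, w₄) [2, 1, 6, 1, 2, 1, 6, 1, 2] [5] lin_std_facts.2.2.2.2.2.2 (by decide)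
      (by decide) ew e9
  · show evG D g (xW ++ [3] ++ [5, 6, 5, 2, 5, 2] ++ [7, 7]) = 1
    rw [evG_append, evG_append, evG_append, evG_model D g xW (by decide), ex,
      evG_model D g [5, 6, 5, 2, 5, 2] (by decide), ex']
    simp only [evG, List.map_cons, List.map_nil, List.prod_cons, List.prod_nil, mul_one, hg, hg',
      map_inv]
    rw [h.sq, pow_two]
    group

variable [Finite G]

/-- One of the four last relators holds. -/
theorem Seven.exists_cand [IsSimpleGroup G] (h : Seven D g) (hG : Nat.card G = 175560) :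
    evG D g (candW 1 iT) = 1 ∨ evG D g (candW 1 iFA) = 1 ∨
    evG D g (candW 3 iFB) = 1 ∨ evG D g (candW 3 iFC) = 1 := by
  obtain ⟨v, hv, r, hr5, hr1, hrv, htr, hxr⟩ := D.exists_r hG
  obtain ⟨l1, l3, c1, c3, m1, m3, -⟩ := lin_std_facts
  have gen : ∀ (k : ℕ) (e0 : C₀), e0 ∈ S₀ → (lin stdImg)^[k] e0 = t₀ →
      ((1, b₄⁻¹) : C₀) * (lin stdImg)^[k] t₀ * ((1, b₄⁻¹) : C₀)⁻¹ = v →
      ∀ i₁ i₂ : List ℕ, (∀ l ∈ i₁, l ≠ 3 ∧ l ≠ 7 ∧ l < 8) → (∀ l ∈ i₂, l ≠ 3 ∧ l ≠ 7 ∧ l < 8) →
      (∀ i : C₀, i * i * i * i * i = 1 → i ≠ 1 → e0 * i * e0⁻¹ = i⁻¹ →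
        ∃ m : Fin 5, i ^ (m : ℕ) = evalC i₁ ∨ i ^ (m : ℕ) = evalC i₂) →
      evG D g (candW k i₁) = 1 ∨ evG D g (candW k i₂) = 1 := by
    intro k e0 he0 hk hkv i₁ i₂ hi₁ hi₂ hcl
    set c := D.emb ((1, b₄⁻¹) : C₀) with hc
    set u := c * g ^ k with hu
    have huv : u * D.t * u⁻¹ = D.emb v := by
      rw [← hkv, map_mul, map_mul, map_inv, ← (h.iter k t₀ v₄_mem.2.2).2, D.emb_t₀, hu, hc]
      group
    have hct : c⁻¹ * D.t * c = D.t := by
      rw [hc, ← D.emb_t₀, ← map_inv, ← map_mul, ← map_mul, mul_assoc, ← t₀_comm, inv_mul_cancel_left]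
    have hut : u⁻¹ * D.t * u = D.emb e0 := by
      have h2 := (h.iter k e0 he0).2
      rw [hk, D.emb_t₀] at h2
      calc u⁻¹ * D.t * u = (g ^ k)⁻¹ * (c⁻¹ * D.t * c) * g ^ k := by rw [hu]; group
        _ = D.emb e0 := by rw [hct, ← h2]; group
    have hmem : u⁻¹ * r * u ∈ centralizer ({D.t} : Set G) := by
      refine mem_centralizer_singleton_iff.2 ?_
      have e : D.t = u⁻¹ * D.emb v * u := by rw [← huv]; group
      rw [e]
      calc u⁻¹ * r * u * (u⁻¹ * D.emb v * u) = u⁻¹ * (r * D.emb v) * u := by group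
        _ = u⁻¹ * (D.emb v * r) * u := by rw [hrv]
        _ = _ := by group
    obtain ⟨i, hi⟩ := D.exists_emb hmem
    have hi5 : i * i * i * i * i = 1 := by
      refine D.emb_injective ?_
      have e : i * i * i * i * i = i ^ 5 := by simp [pow_succ]
      rw [e, map_pow, hi, show u⁻¹ * r * u = u⁻¹ * r * u⁻¹⁻¹ by rw [inv_inv], conj_pow, hr5, map_one]
      group
    have hi1 : i ≠ 1 := by
      rintro rfl
      rw [map_one] at hi
      refine hr1 ?_
      calc r = u * (u⁻¹ * r * u) * u⁻¹ := by group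
        _ = 1 := by rw [← hi]; group
    have hie : e0 * i * e0⁻¹ = i⁻¹ := by
      refine D.emb_injective ?_
      rw [map_mul, map_mul, map_inv, map_inv, hi, ← hut]
      calc u⁻¹ * D.t * u * (u⁻¹ * r * u) * (u⁻¹ * D.t * u)⁻¹ = u⁻¹ * (D.t * r * D.t⁻¹) * u := by group
        _ = (u⁻¹ * r * u)⁻¹ := by rw [htr]; group
    obtain ⟨m, hm⟩ := hcl i hi5 hi1 hie
    have fin : ∀ iw : List ℕ, (∀ l ∈ iw, l ≠ 3 ∧ l ≠ 7 ∧ l < 8) → i ^ (m : ℕ) = evalC iw →
        evG D g (candW k iw) = 1 := by
      intro iw hiw he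
      have hrW : evG D g (rW k iw) = r ^ (m : ℕ) := by
        have hone : evG D g [6] = c ∧ evG D g [2] = c⁻¹ := by
          constructor
          · rw [evG_model D g _ (by decide), hc]; simp [evalC, letC]
          · rw [evG_model D g _ (by decide), hc, ← map_inv]; simp [evalC, letC]
        rw [rW, evG_append, evG_append, evG_append, evG_append, hone.1, hone.2,
          (evG_replicate D g k).1, (evG_replicate D g k).2,
          evG_model D g iw (fun l hl => ⟨(hiw l hl).1, (hiw l hl).2.1⟩), ← he, map_pow, hi]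
        have e : r ^ (m : ℕ) = u * (u⁻¹ * r * u) ^ (m : ℕ) * u⁻¹ := by
          rw [← conj_pow]; congr 1; group
        rw [e, hu]
        group
      have hlt : ∀ l ∈ rW k iw, l < 8 := by
        intro l hl
        simp only [rW, List.mem_append, List.mem_singleton, List.mem_replicate] at hl
        rcases hl with (((h' | ⟨-, h'⟩) | h') | ⟨-, h'⟩) | h'
        · omega
        · omega
        · exact (hiw l h').2.2
        · omega
        · omega
      rw [candW, evG_append, evG_append, evG_append, evG_winv D g _ hlt,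
        evG_winv D g xW (by decide), hrW, evG_model D g xW (by decide), rel_facts.2.2.2.2.2.2.2.2.2.2.1]
      have hcomm : Commute (D.emb (1, x₃)) (r ^ (m : ℕ)) := (show Commute (D.emb (1, x₃)) r from hxr).pow_right _
      rw [hcomm.eq, mul_inv_cancel_right, mul_inv_cancel]
    exact hm.imp (fin i₁ hi₁) (fin i₂ hi₂)
  rcases hv with rfl | rfl
  · rcases gen 1 (tu, v₄) m1 l1 c1 iT iFA (by decide) (by decide) classify_one with h' | h'
    · exact Or.inl h'
    · exact Or.inr (Or.inl h')
  · rcases gen 3 (1, v₄ * w₄) m3 l3 c3 iFB iFC (by decide) (by decide) classify_three with h' | h'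
    · exact Or.inr (Or.inr (Or.inl h'))
    · exact Or.inr (Or.inr (Or.inr h'))

omit [Finite G] in
/-- A certificate with valid relators gives its facts. -/
theorem Seven.holds (h : Seven D g) (C : Cert) {k : ℕ} {i : List ℕ}
    (hrels : C.rels = baseRels ++ [candW k i]) (hnum : C.numFixed = 3)
    (hok : C.relsOK = true) {N : ℕ} (hall : allN N C.factOK = true)
    (hcand : evG D g (candW k i) = 1) :
    ∃ ν : ℕ → G ⧸ centralizer ({D.t} : Set G), ν 0 = base D ∧
      ∀ f < N, C.Holds (act D g) ν f := by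
  obtain ⟨ν, hν0, hν⟩ := C.exists_nodes (act D g) (base D)
  refine ⟨ν, hν0, C.sound (letters D g) (fun r hr x => ?_) (fun l hl => fixed_base D g l (hnum ▸ hl))
    hok hν0 hν ((allN_iff _ _).1 hall)⟩
  rw [hrels, List.mem_append, List.mem_singleton] at hr
  have : evG D g r = 1 := hr.elim (h.base_rels r) (fun e => e ▸ hcand)
  rw [run_act, this, inv_one, one_smul]

omit [Finite G] in
theorem Seven.collapse (h : Seven D g) (C : Cert) {k : ℕ} {i : List ℕ}
    (hrels : C.rels = baseRels ++ [candW k i]) (hnum : C.numFixed = 3)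
    (hok : C.relsOK = true) {N : ℕ} (hall : allN N C.factOK = true) {n : ℕ} (hn : n < N)
    (hlast : C.src n = 0 ∧ C.lab n = 3 ∧ C.dst n = 0)
    (hcand : evG D g (candW k i) = 1) : False := by
  obtain ⟨ν, hν0, hH⟩ := h.holds C hrels hnum hok hall hcand
  have := (hH n hn).2
  rw [hlast.1, hlast.2.1, hlast.2.2, hν0, act, smul_base, inv_mem_iff] at this
  simp only [letG, if_pos] at this
  exact h.not_fix this

/-- The subgroup generated by the centralizer and `g`. -/
theorem Seven.top [IsSimpleGroup G] (h : Seven D g) (hG : Nat.card G = 175560) {L : Subgroup G}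
    (hC : centralizer ({D.t} : Set G) ≤ L) (hg : g ∈ L) : L = ⊤ := by
  classical
  have : Fact (Nat.Prime 2) := ⟨Nat.prime_two⟩
  set N := normalizer ((D.P : Subgroup G) : Set G) with hN
  have hgN : g ∈ N := by
    refine mem_normalizer_iff_map_conj_eq.2 (eq_of_le_of_card_ge ?_ ?_)
    · rintro _ ⟨n, hn, rfl⟩
      obtain ⟨s, hs, rfl⟩ := D.mem_P.1 hn
      exact D.mem_P.2 ⟨_, lin_std_mem s hs, (h.conj s hs).symm⟩
    · exact (card_map_of_injective (MulAut.conj g).injective).ge
  have hg7 : orderOf g = 7 := by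
    have : Fact (Nat.Prime 7) := ⟨by norm_num⟩
    refine orderOf_eq_prime h.pow fun h1 => h.not_fix ?_
    rw [h1]; exact one_mem _
  -- the normalizer of `P` is contained in `L`
  have hNL : N ≤ L := by
    have h24 : 24 ∣ Nat.card ↥(N ⊓ L) := by
      let F : {c : C₀ // Nrm c} → ↥((N ⊓ L) ⊓ centralizer ({D.t} : Set G)) := fun c =>
        ⟨D.emb c.1, ⟨D.emb_normalizes c.2, hC (D.emb_mem _)⟩, D.emb_mem _⟩
      have hb : Function.Bijective F := by
        refine ⟨fun a b hab => Subtype.ext (D.emb_injective (congrArg Subtype.val hab :)), ?_⟩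
        rintro ⟨n, ⟨hn1, -⟩, hn2⟩
        obtain ⟨c, hc, hcn⟩ := D.stab_eq hn1
          (mul_inv_eq_iff_eq_mul.2 (mem_centralizer_singleton_iff.1 hn2))
        exact ⟨⟨c, hcn⟩, Subtype.ext hc⟩
      rw [← Setup.count_S₀.2, Nat.card_congr (Equiv.ofBijective F hb)]
      exact card_dvd_of_le inf_le_left
    have h7 : 7 ∣ Nat.card ↥(N ⊓ L) := by
      have hm : g ∈ N ⊓ L := Subgroup.mem_inf.2 ⟨hgN, hg⟩
      rw [← hg7, ← Subgroup.orderOf_mk g hm]
      exact orderOf_dvd_natCard _
    have hdvd : 168 ∣ Nat.card ↥(N ⊓ L) := Nat.Coprime.mul_dvd_of_dvd_of_dvd (by norm_num : Nat.Coprime 24 7) h24 h7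
    have heq : N ⊓ L = N := eq_of_le_of_card_ge inf_le_left
      (by rw [D.card_normalizer_P]; exact Nat.le_of_dvd Nat.card_pos hdvd)
    exact inf_eq_left.1 heq
  have hPL : (D.P : Subgroup G) ≤ L := le_normalizer.trans hNL
  -- one class of involutions in `L`
  have hone : ∀ u ∈ L, orderOf u = 2 → ∃ a ∈ L, a * D.t * a⁻¹ = u := by
    intro u hu ho
    have hp : IsPGroup 2 (zpowers (⟨u, hu⟩ : L)) := IsPGroup.of_card (n := 1) (by
      rw [Nat.card_zpowers, Subgroup.orderOf_mk, ho, pow_one])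
    obtain ⟨Q, hQ⟩ := hp.exists_le_sylow
    obtain ⟨a, ha⟩ := MulAction.exists_smul_eq L Q (D.P.subtype hPL)
    have hmem : (a : G) * u * (a : G)⁻¹ ∈ (D.P : Subgroup G) := by
      have h1 : a * ⟨u, hu⟩ * a⁻¹ ∈ ((a • Q : Sylow 2 L) : Subgroup L) := by
        rw [Sylow.coe_subgroup_smul]
        exact ⟨⟨u, hu⟩, hQ (mem_zpowers _), rfl⟩
      rw [ha, Sylow.coe_subtype, mem_subgroupOf] at h1
      simpa using h1
    obtain ⟨s, hs, hse⟩ := D.mem_P.1 hmem
    have hs1 : s ≠ 1 := by
      rintro rfl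
      rw [map_one, eq_comm, conj_eq_one_iff] at hse
      rw [hse, orderOf_one] at ho
      omega
    obtain ⟨n, hn, hne⟩ := D.exists_move hs hs1
    refine ⟨(a : G)⁻¹ * n, mul_mem (inv_mem a.2) (hNL hn), ?_⟩
    calc (a : G)⁻¹ * n * D.t * ((a : G)⁻¹ * n)⁻¹ = (a : G)⁻¹ * (n * D.t * n⁻¹) * a := by group
      _ = u := by rw [hne, hse]; group
  -- so `L` has index at most `47`
  have hC120 : Nat.card (centralizer ({D.t} : Set G)) = 120 := by
    rw [Nat.card_congr D.e.toEquiv, card_C₀]
  have hidx : 31 ≤ (centralizer ({D.t} : Set G)).relIndex L := by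
    let sel : {c : C₀ // c * c = 1 ∧ c ≠ 1} → L := fun c =>
      ⟨Classical.choose (hone _ (hC (D.emb_mem c.1)) (orderOf_eq_prime
          (by rw [pow_two, ← map_mul, c.2.1, map_one])
          (fun he => c.2.2 (D.emb_injective (by rw [he, map_one]))))),
        (Classical.choose_spec (hone _ (hC (D.emb_mem c.1)) (orderOf_eq_prime
          (by rw [pow_two, ← map_mul, c.2.1, map_one])
          (fun he => c.2.2 (D.emb_injective (by rw [he, map_one])))))).1⟩
    have hsel : ∀ c, (sel c : G) * D.t * (sel c : G)⁻¹ = D.emb c.1 := fun c =>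
      (Classical.choose_spec (hone _ (hC (D.emb_mem c.1)) (orderOf_eq_prime
          (by rw [pow_two, ← map_mul, c.2.1, map_one])
          (fun he => c.2.2 (D.emb_injective (by rw [he, map_one])))))).2
    rw [← count_involutions]
    refine Nat.card_le_card_of_injective
      (fun c => (sel c : L ⧸ (centralizer ({D.t} : Set G)).subgroupOf L)) fun a b hab => ?_
    have h1 := QuotientGroup.eq.1 hab
    rw [mem_subgroupOf, mem_centralizer_singleton_iff] at h1
    refine Subtype.ext (D.emb_injective ?_)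
    rw [← hsel, ← hsel]
    simp only [Subgroup.coe_mul, InvMemClass.coe_inv] at h1
    calc (sel a : G) * D.t * (sel a : G)⁻¹
        = (sel a : G) * (D.t * ((sel a : G)⁻¹ * sel b)) * (sel b : G)⁻¹ := by group
      _ = (sel a : G) * (((sel a : G)⁻¹ * sel b) * D.t) * (sel b : G)⁻¹ := by rw [h1]
      _ = _ := by group
  have hprod : (centralizer ({D.t} : Set G)).relIndex L * L.index = 1463 := by
    rw [relIndex_mul_index hC]
    have := card_mul_index (centralizer ({D.t} : Set G))
    rw [hC120, hG] at this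
    omega
  by_contra hne
  have hne1 : L.index ≠ 1 := fun h1 => hne (index_eq_one.1 h1)
  have hm : L.index = 7 ∨ L.index = 11 ∨ L.index = 19 := by
    have key : ∀ m ≤ 47, m ∣ 1463 → m = 1 ∨ m = 7 ∨ m = 11 ∨ m = 19 := by decide
    have hle : L.index ≤ 47 := by nlinarith
    rcases key _ hle (Dvd.intro_left _ hprod) with h' | h'
    · exact absurd h' hne1
    · exact h'
  -- each involution of `P` fixes one coset of `L`
  have hfix : ∀ p : (D.P : Subgroup G), p ≠ 1 → ∀ x : G ⧸ L,
      p • x = x ↔ x = ((1 : G) : G ⧸ L) := by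
    intro p hp x
    obtain ⟨a, rfl⟩ := QuotientGroup.mk_surjective x
    constructor
    · intro hx
      replace hx : (((p : G) * a : G) : G ⧸ L) = (a : G ⧸ L) := hx
      rw [QuotientGroup.eq] at hx
      rw [QuotientGroup.eq, mul_one, inv_mem_iff]
      obtain ⟨s, hs, hse⟩ := D.mem_P.1 p.2
      have hsq : (p : G) * p = 1 := by rw [← hse, ← map_mul, S₀_sq s hs, map_one]
      have hp1 : (p : G) ≠ 1 := fun h' => hp (Subtype.ext h')
      have hw : a⁻¹ * p * a ∈ L := by
        have e : ((p : G) * a)⁻¹ * a = a⁻¹ * p * a := by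
          rw [mul_inv_rev, inv_eq_of_mul_eq_one_right hsq, mul_assoc]
        rwa [e] at hx
      have ho1 : orderOf (a⁻¹ * p * a) = 2 := by
        rw [show a⁻¹ * (p : G) * a = (MulAut.conj a⁻¹).toMonoidHom p by simp,
          orderOf_injective _ (MulAut.conj _).injective]
        exact orderOf_eq_prime (by rw [pow_two, hsq]) hp1
      obtain ⟨b₁, hb₁, e₁⟩ := hone _ hw ho1
      obtain ⟨b₂, hb₂, e₂⟩ := hone _ (hPL p.2) (orderOf_eq_prime (by rw [pow_two, hsq]) hp1)
      have hz : b₂⁻¹ * a * b₁ ∈ centralizer ({D.t} : Set G) := by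
        refine mem_centralizer_singleton_iff.2 (mul_inv_eq_iff_eq_mul.1 ?_)
        calc b₂⁻¹ * a * b₁ * D.t * (b₂⁻¹ * a * b₁)⁻¹
            = b₂⁻¹ * (a * (b₁ * D.t * b₁⁻¹) * a⁻¹) * b₂ := by group
          _ = b₂⁻¹ * (p : G) * b₂ := by rw [e₁]; group
          _ = D.t := by rw [← e₂]; group
      have e : a = b₂ * (b₂⁻¹ * a * b₁) * b₁⁻¹ := by group
      rw [e]
      exact mul_mem (mul_mem hb₂ (hC hz)) (inv_mem hb₁)
    · intro hx
      rw [hx]
      show (((p : G) * 1 : G) : G ⧸ L) = _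
      rw [mul_one, QuotientGroup.eq, mul_one, inv_mem_iff]
      exact hPL p.2
  have hburn : ∃ j, L.index + 7 = j * 8 := by
    have := Fintype.ofFinite (D.P : Subgroup G)
    have := Fintype.ofFinite (G ⧸ L)
    have := Fintype.ofFinite (MulAction.orbitRel.Quotient (D.P : Subgroup G) (G ⧸ L))
    have hb := Nat.card_congr (MulAction.sigmaFixedByEquivOrbitsProdGroup (D.P : Subgroup G) (G ⧸ L))
    rw [Nat.card_prod, Nat.card_sigma, D.sylow_card] at hb
    refine ⟨_, Eq.trans ?_ hb⟩
    rw [← Finset.add_sum_erase _ _ (Finset.mem_univ (1 : (D.P : Subgroup G)))]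
    have h1 : Nat.card (MulAction.fixedBy (G ⧸ L) (1 : (D.P : Subgroup G))) = L.index := by
      rw [index_eq_card]
      exact Nat.card_congr (Equiv.subtypeUnivEquiv fun x => one_smul _ x)
    have h2 : ∀ p ∈ (Finset.univ : Finset (D.P : Subgroup G)).erase 1,
        Nat.card (MulAction.fixedBy (G ⧸ L) p) = 1 := by
      intro p hp
      rw [Nat.card_eq_one_iff_unique]
      refine ⟨⟨fun x y => Subtype.ext ?_⟩, ⟨⟨_, (hfix p (Finset.ne_of_mem_erase hp) _).2 rfl⟩⟩⟩
      rw [(hfix p (Finset.ne_of_mem_erase hp) _).1 x.2, (hfix p (Finset.ne_of_mem_erase hp) _).1 y.2]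
    rw [h1, Finset.sum_congr rfl h2, Finset.sum_const, smul_eq_mul, mul_one,
      Finset.card_erase_of_mem (Finset.mem_univ _), Finset.card_univ, ← Nat.card_eq_fintype_card,
      D.sylow_card]
  omega

/-- The table describes the action on the cosets. -/
theorem Seven.exists_equiv [IsSimpleGroup G] (h : Seven D g) (hG : Nat.card G = 175560) :
    Subgroup.closure (Set.range fun l : Fin 4 => (letG D g l)⁻¹) = ⊤ ∧
    ∃ e : Fin 1463 ≃ G ⧸ centralizer ({D.t} : Set G), ∀ (l : Fin 4) (c : Fin 1463),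
      ∃ d : Fin 1463, (d : ℕ) = img (4 * (c : ℕ) + l) ∧ (letG D g l)⁻¹ • e c = e d := by
  classical
  obtain ⟨n1, n2, n3, n4⟩ := numFixed_eq
  have hcand : evG D g (candW 1 iT) = 1 := by
    rcases h.exists_cand hG with h' | h' | h' | h'
    · exact h'
    · exact (h.collapse certFA rels_FA n2 certFA_relsOK certFA_ok (by norm_num) certFA_last h').elim
    · exact (h.collapse certFB rels_FB n3 certFB_relsOK certFB_ok (by norm_num) certFB_last h').elim
    · exact (h.collapse certFC rels_FC n4 certFC_relsOK certFC_ok (by norm_num) certFC_last h').elim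
  obtain ⟨ν, hν0, hH⟩ := h.holds certT rels_T n1 certT_relsOK certT_ok hcand
  -- the generators generate
  set L := Subgroup.closure (Set.range fun l : Fin 4 => (letG D g l)⁻¹) with hL
  have hgenmem : ∀ l : Fin 4, letG D g l ∈ L := fun l =>
    inv_mem_iff.1 (subset_closure ⟨l, rfl⟩)
  have hword : ∀ w : List ℕ, (∀ l ∈ w, l = 0 ∨ l = 1 ∨ l = 2 ∨ l = 6) → evG D g w ∈ L := by
    intro w
    induction w with
    | nil => intro; simp [evG, one_mem]
    | cons a w ih =>
      intro hw
      rw [evG_cons]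
      refine mul_mem ?_ (ih fun l hl => hw l (List.mem_cons_of_mem _ hl))
      rcases hw a (List.mem_cons_self ..) with rfl | rfl | rfl | rfl
      · exact hgenmem 0
      · exact hgenmem 1
      · exact hgenmem 2
      · rw [show (6 : ℕ) = linv 2 from rfl, letG_linv D g (by norm_num)]
        exact inv_mem (hgenmem 2)
  have hCL : centralizer ({D.t} : Set G) ≤ L := by
    intro a ha
    obtain ⟨c, rfl⟩ := D.exists_emb ha
    obtain ⟨w, hw, rfl⟩ := List.mem_map.1 (cWords_spec.1 c)
    have hw' : ∀ l ∈ w, l = 0 ∨ l = 1 ∨ l = 2 ∨ l = 6 := fun l hl => by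
      have := List.all_eq_true.1 (List.all_eq_true.1 cWords_spec.2 w hw) l hl
      simp only [Bool.or_eq_true, beq_iff_eq] at this
      tauto
    rw [← evG_model D g w fun l hl => by have := hw' l hl; omega]
    exact hword w hw'
  have htop : L = ⊤ := h.top hG hCL (by simpa [letG] using hgenmem 3)
  refine ⟨htop, ?_⟩
  -- the enumeration
  let f : Fin 1463 → G ⧸ centralizer ({D.t} : Set G) := fun c => ν (node c)
  have hstep : ∀ (l : Fin 4) (c : Fin 1463), ∃ d : Fin 1463, (d : ℕ) = img (4 * (c : ℕ) + l) ∧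
      (letG D g l)⁻¹ • f c = f d := by
    intro l c
    have := c.2; have := l.2
    have ht := (allN_iff _ _).1 tab_ok (4 * (c : ℕ) + l) (by omega)
    simp only [Bool.and_eq_true, Nat.beq_eq, Nat.ble_eq] at ht
    obtain ⟨⟨⟨⟨hlt, hs⟩, hl⟩, hd⟩, hi⟩ := ht
    rw [show (4 * (c : ℕ) + l) / 4 = c by omega] at hs
    rw [show (4 * (c : ℕ) + (l : ℕ)) % 4 = l by omega] at hl
    have hh := (hH (get2 20 tabFact (4 * (c : ℕ) + (l : ℕ))) (by omega)).2
    rw [hs, hl, hd] at hh
    exact ⟨⟨img (4 * (c : ℕ) + l), by omega⟩, rfl, hh⟩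
  have hclosed : ∀ a : G, ∀ c, ∃ d, a • f c = f d := by
    intro a
    have ha : a ∈ L := htop ▸ mem_top a
    have hpow : ∀ x : G, (∀ c, ∃ d, x • f c = f d) → ∀ (k : ℕ) c, ∃ d, x ^ k • f c = f d := by
      intro x hx k
      induction k with
      | zero => intro c; exact ⟨c, by simp⟩
      | succ k ih =>
        intro c
        obtain ⟨d, hd⟩ := hx c
        obtain ⟨e, he⟩ := ih d
        exact ⟨e, by rw [pow_succ, mul_smul, hd, he]⟩
    induction ha using Subgroup.closure_induction with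
    | mem x hx =>
      obtain ⟨l, rfl⟩ := hx
      intro c
      obtain ⟨d, -, hd⟩ := hstep l c
      exact ⟨d, hd⟩
    | one => intro c; exact ⟨c, one_smul _ _⟩
    | mul x y _ _ hx hy =>
      intro c
      obtain ⟨d, hd⟩ := hy c
      obtain ⟨e, he⟩ := hx d
      exact ⟨e, by rw [mul_smul, hd, he]⟩
    | inv x _ hx =>
      intro c
      obtain ⟨d, hd⟩ := hpow x hx (orderOf x - 1) c
      refine ⟨d, ?_⟩
      rw [← hd]
      congr 1
      rw [inv_eq_iff_mul_eq_one, ← pow_succ', Nat.sub_add_cancel (orderOf_pos x), pow_orderOf_eq_one]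
  have hsurj : Function.Surjective f := by
    intro x
    obtain ⟨a, rfl⟩ := QuotientGroup.mk_surjective x
    obtain ⟨d, hd⟩ := hclosed a 0
    refine ⟨d, ?_⟩
    rw [← hd]
    show a • ν (node ((0 : Fin 1463) : ℕ)) = _
    rw [show ((0 : Fin 1463) : ℕ) = 0 from rfl, node_zero, hν0, base, MulAction.Quotient.smul_mk,
      smul_eq_mul, mul_one]
  have hcard : Nat.card (G ⧸ centralizer ({D.t} : Set G)) = 1463 := by
    rw [← index_eq_card]
    have := card_mul_index (centralizer ({D.t} : Set G))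
    rw [Nat.card_congr D.e.toEquiv, card_C₀, hG] at this
    omega
  have hbij : Function.Bijective f := hsurj.bijective_of_nat_card_le (by simp [hcard])
  exact ⟨Equiv.ofBijective f hbij, hstep⟩

end Cfsg.Agent.Coprime.J1.Uniq
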