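import Cfsg.Agent.Coprime.J1.Uniq.GensModel
import Cfsg.Agent.Coprime.J1.Uniq.DataT
import Cfsg.Agent.Coprime.J1.Uniq.DataFA
import Cfsg.Agent.Coprime.J1.Uniq.DataFB
import Cfsg.Agent.Coprime.J1.Uniq.DataFC

/-!
# Words in the model, and the shape of the certificates
-/

set_option autoImplicit false
set_option synthInstance.maxSize 1000
set_option synthInstance.maxHeartbeats 200000
set_option maxRecDepth 20000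

namespace Cfsg.Agent.Coprime.J1.Uniq

open Equiv Cfsg.Agent.Compute

/-- The three-cycle `(1 2 4)`. -/
def b₄ : A := ⟨swap 1 2 * swap 2 4, Perm.mem_alternatingGroup.2 (by decide +kernel)⟩

/-- The letters that lie in the model. -/
def letC (l : ℕ) : C₀ :=
  if l = 0 ∨ l = 4 then t₀ else if l = 1 ∨ l = 5 then (1, v₄) else if l = 2 then (1, b₄)
  else if l = 6 then (1, b₄⁻¹) else 1

/-- The value of a word in the model. -/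
def evalC (w : List ℕ) : C₀ := (w.map letC).prod

/-- A word for each element of the model. -/
def cWords : List (List ℕ) :=
  [[],
   [2],
   [6],
   [1],
   [0],
   [1, 2],
   [1, 6],
   [2, 1],
   [6, 1],
   [0, 2],
   [0, 6],
   [0, 1],
   [2, 1, 6],
   [2, 1, 2],
   [1, 2, 1],
   [1, 6, 1],
   [6, 1, 6],
   [6, 1, 2],
   [0, 1, 2],
   [0, 1, 6],
   [0, 2, 1],
   [0, 6, 1],
   [2, 1, 6, 1],
   [6, 1, 6, 1],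
   [1, 2, 1, 6],
   [1, 2, 1, 2],
   [2, 1, 2, 1],
   [6, 1, 2, 1],
   [1, 6, 1, 2],
   [1, 6, 1, 6],
   [0, 2, 1, 6],
   [0, 2, 1, 2],
   [0, 1, 2, 1],
   [0, 1, 6, 1],
   [0, 6, 1, 6],
   [0, 6, 1, 2],
   [1, 2, 1, 6, 1],
   [2, 1, 6, 1, 6],
   [2, 1, 6, 1, 2],
   [6, 1, 6, 1, 2],
   [1, 2, 1, 2, 1],
   [1, 6, 1, 2, 1],
   [2, 1, 2, 1, 6],
   [6, 1, 2, 1, 6],
   [6, 1, 2, 1, 2],
   [1, 6, 1, 6, 1],
   [0, 2, 1, 6, 1],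
   [0, 6, 1, 6, 1],
   [0, 1, 2, 1, 6],
   [0, 1, 2, 1, 2],
   [0, 2, 1, 2, 1],
   [0, 6, 1, 2, 1],
   [0, 1, 6, 1, 2],
   [0, 1, 6, 1, 6],
   [1, 2, 1, 6, 1, 6],
   [2, 1, 2, 1, 6, 1],
   [6, 1, 2, 1, 6, 1],
   [1, 2, 1, 6, 1, 2],
   [6, 1, 6, 1, 2, 1],
   [1, 6, 1, 2, 1, 2],
   [1, 6, 1, 2, 1, 6],
   [2, 1, 6, 1, 2, 1],
   [0, 1, 2, 1, 6, 1],
   [0, 2, 1, 6, 1, 6],
   [0, 2, 1, 6, 1, 2],
   [0, 6, 1, 6, 1, 2],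
   [0, 1, 2, 1, 2, 1],
   [0, 1, 6, 1, 2, 1],
   [0, 2, 1, 2, 1, 6],
   [0, 6, 1, 2, 1, 6],
   [0, 6, 1, 2, 1, 2],
   [0, 1, 6, 1, 6, 1],
   [6, 1, 2, 1, 6, 1, 6],
   [2, 1, 2, 1, 6, 1, 2],
   [6, 1, 2, 1, 6, 1, 2],
   [2, 1, 2, 1, 6, 1, 6],
   [6, 1, 6, 1, 2, 1, 2],
   [1, 6, 1, 2, 1, 6, 1],
   [6, 1, 6, 1, 2, 1, 6],
   [1, 2, 1, 6, 1, 2, 1],
   [2, 1, 6, 1, 2, 1, 2],
   [2, 1, 6, 1, 2, 1, 6],
   [0, 1, 2, 1, 6, 1, 6],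
   [0, 2, 1, 2, 1, 6, 1],
   [0, 6, 1, 2, 1, 6, 1],
   [0, 1, 2, 1, 6, 1, 2],
   [0, 6, 1, 6, 1, 2, 1],
   [0, 1, 6, 1, 2, 1, 2],
   [0, 1, 6, 1, 2, 1, 6],
   [0, 2, 1, 6, 1, 2, 1],
   [1, 6, 1, 2, 1, 6, 1, 6],
   [1, 6, 1, 2, 1, 6, 1, 2],
   [6, 1, 2, 1, 6, 1, 2, 1],
   [2, 1, 6, 1, 2, 1, 6, 1],
   [1, 2, 1, 6, 1, 2, 1, 2],
   [1, 2, 1, 6, 1, 2, 1, 6],
   [0, 6, 1, 2, 1, 6, 1, 6],
   [0, 2, 1, 2, 1, 6, 1, 2],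
   [0, 6, 1, 2, 1, 6, 1, 2],
   [0, 2, 1, 2, 1, 6, 1, 6],
   [0, 6, 1, 6, 1, 2, 1, 2],
   [0, 1, 6, 1, 2, 1, 6, 1],
   [0, 6, 1, 6, 1, 2, 1, 6],
   [0, 1, 2, 1, 6, 1, 2, 1],
   [0, 2, 1, 6, 1, 2, 1, 2],
   [0, 2, 1, 6, 1, 2, 1, 6],
   [2, 1, 6, 1, 2, 1, 6, 1, 2],
   [1, 6, 1, 2, 1, 6, 1, 2, 1],
   [1, 2, 1, 6, 1, 2, 1, 6, 1],
   [0, 1, 6, 1, 2, 1, 6, 1, 6],
   [0, 1, 6, 1, 2, 1, 6, 1, 2],
   [0, 6, 1, 2, 1, 6, 1, 2, 1],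
   [0, 2, 1, 6, 1, 2, 1, 6, 1],
   [0, 1, 2, 1, 6, 1, 2, 1, 2],
   [0, 1, 2, 1, 6, 1, 2, 1, 6],
   [1, 2, 1, 6, 1, 2, 1, 6, 1, 2],
   [0, 2, 1, 6, 1, 2, 1, 6, 1, 2],
   [0, 1, 6, 1, 2, 1, 6, 1, 2, 1],
   [0, 1, 2, 1, 6, 1, 2, 1, 6, 1],
   [0, 1, 2, 1, 6, 1, 2, 1, 6, 1, 2]]

theorem cWords_spec : (∀ c : C₀, c ∈ cWords.map evalC) ∧
    cWords.all (fun w => w.all fun l => l == 0 || l == 1 || l == 2 || l == 6) = true := by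
  constructor <;> decide +kernel

/-- The relators of the amalgam. -/
def baseRels : List (List ℕ) :=
  [[0, 0], [1, 1], [2, 2, 2], [1, 2, 1, 2, 1, 2, 1, 2, 1, 2], [0, 1, 0, 1], [0, 2, 0, 6],
   [3, 3, 3, 3, 3, 3, 3],
   [3, 0, 7, 6, 5, 2, 5, 6, 5, 2, 5, 6],
   [3, 1, 7, 6, 5, 2, 5, 6, 5, 2, 5, 6, 4],
   [3, 2, 1, 6, 1, 2, 1, 6, 1, 2, 7, 5],
   [6, 1, 6, 1, 2, 1, 3, 5, 6, 5, 2, 5, 2, 7, 7]]

/-- The word for `x₃`. -/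
def xW : List ℕ := [6, 1, 6, 1, 2, 1]

/-- The word for the element of order five. -/
def rW (k : ℕ) (i : List ℕ) : List ℕ :=
  [6] ++ List.replicate k 3 ++ i ++ List.replicate k 7 ++ [2]

/-- The last relator. -/
noncomputable def candW (k : ℕ) (i : List ℕ) : List ℕ := xW ++ rW k i ++ winv xW ++ winv (rW k i)

def iT : List ℕ := [2, 1, 6, 1]
def iFA : List ℕ := [1, 6, 1, 2]
def iFB : List ℕ := [1, 2, 1, 2, 1]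
def iFC : List ℕ := [2, 1, 2]

noncomputable def allWeq : List (List ℕ) → List (List ℕ) → Bool
  | [], [] => true
  | a :: u, b :: v => weq a b && allWeq u v
  | _, _ => false

theorem allWeq_eq : ∀ u v : List (List ℕ), allWeq u v = true → u = v
  | [], [], _ => rfl
  | a :: u, b :: v, h => by
    simp only [allWeq, Bool.and_eq_true] at h
    rw [weq_eq a b h.1, allWeq_eq u v h.2]
  | [], _ :: _, h => by simp [allWeq] at h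
  | _ :: _, [], h => by simp [allWeq] at h

theorem rels_T : certT.rels = baseRels ++ [candW 1 iT] := allWeq_eq _ _ (by decide +kernel)
theorem rels_FA : certFA.rels = baseRels ++ [candW 1 iFA] := allWeq_eq _ _ (by decide +kernel)
theorem rels_FB : certFB.rels = baseRels ++ [candW 3 iFB] := allWeq_eq _ _ (by decide +kernel)
theorem rels_FC : certFC.rels = baseRels ++ [candW 3 iFC] := allWeq_eq _ _ (by decide +kernel)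

theorem numFixed_eq : certT.numFixed = 3 ∧ certFA.numFixed = 3 ∧ certFB.numFixed = 3 ∧
    certFC.numFixed = 3 := ⟨rfl, rfl, rfl, rfl⟩

/-- The node of a coset. -/
noncomputable def node (c : ℕ) : ℕ := get2 20 tabNode c

/-- The image of a coset. -/
noncomputable def img (n : ℕ) : ℕ := get2 20 tabImg n

/-- The table is justified by the certificate. -/
noncomputable def tabOK : Bool :=
  allN 5852 fun n =>
    Nat.ble (get2 20 tabFact n + 1) 15525 && Nat.beq (certT.src (get2 20 tabFact n)) (node (n / 4)) &&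
      Nat.beq (certT.lab (get2 20 tabFact n)) (n % 4) &&
      Nat.beq (certT.dst (get2 20 tabFact n)) (node (img n)) && Nat.ble (img n + 1) 1463

theorem tab_ok : tabOK = true := by decide +kernel

theorem node_zero : node 0 = 0 := by decide +kernel

theorem rel_facts :
    evalC [0, 0] = 1 ∧ evalC [1, 1] = 1 ∧ evalC [2, 2, 2] = 1 ∧
    evalC [1, 2, 1, 2, 1, 2, 1, 2, 1, 2] = 1 ∧ evalC [0, 1, 0, 1] = 1 ∧ evalC [0, 2, 0, 6] = 1 ∧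
    evalC [6, 5, 2, 5, 6, 5, 2, 5, 6] = ((lin stdImg t₀)⁻¹) ∧
    evalC [6, 5, 2, 5, 6, 5, 2, 5, 6, 4] = ((lin stdImg (1, v₄))⁻¹) ∧
    evalC [5] = ((lin stdImg (1, w₄))⁻¹) ∧
    evalC [2, 1, 6, 1, 2, 1, 6, 1, 2] = (1, w₄) ∧
    evalC xW = ((1 : Multiplicative (ZMod 2)), x₃) ∧
    evalC [5, 6, 5, 2, 5, 2] = ((1, x₃) : C₀)⁻¹ := by
  decide +kernel

theorem lin_std_facts :
    (lin stdImg)^[1] (tu, v₄) = t₀ ∧ (lin stdImg)^[3] (1, v₄ * w₄) = t₀ ∧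
    ((1, b₄⁻¹) : C₀) * (lin stdImg)^[1] t₀ * ((1, b₄⁻¹) : C₀)⁻¹ = (1, v₂) ∧
    ((1, b₄⁻¹) : C₀) * (lin stdImg)^[3] t₀ * ((1, b₄⁻¹) : C₀)⁻¹ = (tu, v₂) ∧
    ((tu, v₄) : C₀) ∈ S₀ ∧ ((1, v₄ * w₄) : C₀) ∈ S₀ ∧ ((1, w₄) : C₀) ∈ S₀ := by
  decide +kernel

theorem lin_std_mem : ∀ s : C₀, s ∈ S₀ → lin stdImg s ∈ S₀ := by decide +kernel

theorem classify_one : ∀ i : C₀, i * i * i * i * i = 1 → i ≠ 1 → ((tu, v₄) : C₀) * i * ((tu, v₄) : C₀)⁻¹ = i⁻¹ →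
    ∃ m : Fin 5, i ^ (m : ℕ) = evalC iT ∨ i ^ (m : ℕ) = evalC iFA := by
  decide +kernel

theorem classify_three : ∀ i : C₀, i * i * i * i * i = 1 → i ≠ 1 →
    ((1, v₄ * w₄) : C₀) * i * ((1, v₄ * w₄) : C₀)⁻¹ = i⁻¹ →
    ∃ m : Fin 5, i ^ (m : ℕ) = evalC iFB ∨ i ^ (m : ℕ) = evalC iFC := by
  decide +kernel

theorem count_involutions : Nat.card {c : C₀ // c * c = 1 ∧ c ≠ 1} = 31 := by
  rw [Nat.card_eq_fintype_card, Fintype.card_subtype]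
  decide +kernel

end Cfsg.Agent.Coprime.J1.Uniq
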